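import Groth.Agent.GIT36.Glue.Semistable
import Groth.Agent.EGA73.LineCocycle
import Groth.Agent.Amp73.Ample
import Mathlib.AlgebraicGeometry.Noetherian

/-!
An ample invertible module on the quotient of the semistable locus.
-/

set_option autoImplicit false
set_option linter.unusedSectionVars false
set_option linter.style.haveILetI false
set_option backward.isDefEq.respectTransparency.types false

universe u

open CategoryTheory CategoryTheory.Limits MonoidalCategory CartesianMonoidalCategory AlgebraicGeometry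
  TopologicalSpace
open Groth.Agent.H98EqInt Groth.Agent.GIT36.Proj Groth.Agent.GIT36.FinAction

noncomputable section

namespace Groth.Agent.GIT36.Glue

open Var76.LineBundle Var76.ZeroScheme AffQuot

variable {k : Type u} [Field k] {G X : Over (Spec (CommRingCat.of k))} [GrpObj G] {a : AlgGrp.Action G X}
  (B : GLinSh.LinBun G a) {A : Type u} [CommRing A] [HopfAlgebra k A] (ψ : GMod80.sp k A ≅ G)
  [IsMonHom ψ.hom] (hLR : HopfRep.IsLinearlyReductive k A) [LocallyOfFiniteType X.hom] [QuasiCompact X.hom]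

theorem isCompact_opens (U : X.left.Opens) : IsCompact (U : Set X.left) := by
  haveI : CompactSpace X.left := QuasiCompact.compactSpace_of_compactSpace X.hom
  haveI : IsLocallyNoetherian X.left := LocallyOfFiniteType.isLocallyNoetherian X.hom
  haveI : AlgebraicGeometry.IsNoetherian X.left := {}
  exact NoetherianSpace.isCompact (U : Set X.left)

theorem compactSpace_Y : CompactSpace ((goodFamily B).Y ψ hLR).left := by
  let Φ := goodFamily B
  haveI : CompactSpace (openObj Φ.U).left := isCompact_iff_compactSpace.1 (isCompact_opens Φ.U)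
  refine ⟨?_⟩
  rw [← Set.range_eq_univ.2 (Φ.surjective_φ ψ hLR)]
  exact isCompact_range (Φ.φ ψ hLR).left.continuous

include ψ hLR in
theorem exists_isAmple : ∃ M : ((goodFamily B).Y ψ hLR).left.Modules, CohB1.IsAmple M := by
  classical
  haveI := B.atlas.affine
  let Φ := goodFamily B
  let Y := (Φ.Y ψ hLR).left
  let φ := (Φ.φ ψ hLR).left
  let U := Φ.U
  have hsec := (Φ.locAffQ ψ hLR).sections ψ hLR
  obtain ⟨N, s, F, hN, hs, hcov⟩ := exists_finite_good (B := B) (C := (U : Set X.left)) (isCompact_opens U)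
    (goodFamily_U B).le
  let I : Type u := {W : Φ.P // W ∈ s}
  let W : I → X.left.Opens := fun i => i.1.1
  let O : I → Y.Opens := fun i => (Φ.ιY ψ hLR i.1).left.opensRange
  have hO : ∀ i, φ ⁻¹ᵁ O i = U.ι ⁻¹ᵁ W i := fun i => Φ.preimage_range_ιY ψ hLR i.1
  choose r hr hri hrb using fun i l : I =>
    exists_transition (hs i.1 i.2).1 (hs l.1 l.2).1 (hs i.1 i.2).2 (hs l.1 l.2).2
  have hb : ∀ i l : I, ∃ b : Γ(Y, O i), φ.app (O i) b = U.ι.appLE (W i) (φ ⁻¹ᵁ O i) (hO i).le (r i l) := by
    intro i l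
    have h : U.ι.appLE (W i) (φ ⁻¹ᵁ O i) (hO i).le (r i l) ∈ Set.range (φ.app (O i)) := by
      rw [(hsec (O i)).2]
      exact isInvSection_of_invOn (hO i).le (hri i l)
    exact h
  choose b hb using hb
  have hbW : ∀ i l : I, Y.basicOpen (b i l) = O i ⊓ O l := by
    intro i l
    refine Opens.ext ((Φ.surjective_φ ψ hLR).preimage_injective ?_)
    show ((φ ⁻¹ᵁ Y.basicOpen (b i l) : (openObj U).left.Opens) : Set (openObj U).left) =
      ((φ ⁻¹ᵁ (O i ⊓ O l) : (openObj U).left.Opens) : Set (openObj U).left)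
    rw [Scheme.Hom.preimage_inf, hO, hO, φ.preimage_basicOpen, hb, Scheme.basicOpen_appLE, hrb, hO,
      Scheme.Hom.preimage_inf]
    exact congrArg SetLike.coe (inf_eq_right.2 inf_le_left)
  -- the cocycle identity
  have hone : ∀ i, b i i = 1 := by
    intro i
    apply (hsec (O i)).1
    rw [hb, map_one, show r i i = 1 from Sections.ratio_unique (A := Sections.atlasB B) (hf := (hs i.1 i.2).1.1)
      (hs i.1 i.2).2.le (by rw [map_one, one_mul]; exact hr i i), map_one]
  have hco : ∀ (i j l : I) (P : Y.Opens) (hi : P ≤ O i) (hj : P ≤ O j),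
      fres hi (b i j) * fres hj (b j l) = fres hi (b i l) := by
    intro i j l P hi hj
    apply (hsec P).1
    let D := W i ⊓ W j
    have hPD : φ ⁻¹ᵁ P ≤ U.ι ⁻¹ᵁ D := le_inf ((φ.preimage_mono hi).trans (hO i).le)
      ((φ.preimage_mono hj).trans (hO j).le)
    have e1 := app_fres (Φ.φ ψ hLR) hi (D' := D) inf_le_left (hO i).le hPD (hb i j)
    have e2 := app_fres (Φ.φ ψ hLR) hj (D' := D) inf_le_right (hO j).le hPD (hb j l)
    have e3 := app_fres (Φ.φ ψ hLR) hi (D' := D) inf_le_left (hO i).le hPD (hb i l)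
    rw [map_mul]
    refine (congrArg₂ (· * ·) e1 e2).trans (Eq.trans ?_ e3.symm)
    rw [← map_mul]
    refine congrArg _ ?_
    refine Sections.ratio_unique (A := Sections.atlasB B) (hf := (hs i.1 i.2).1.1)
      (W := D) (fun x (hx : x ∈ W i ⊓ W j) => (hs i.1 i.2).2.le hx.1) ?_
    have h1 := (hr i j).res (inf_le_left : D ≤ W i)
    have h2 := (hr j l).res (inf_le_right : D ≤ W j)
    have h3 := (hr i l).res (inf_le_left : D ≤ W i)
    rw [Sections.IsRatio] at h1 h2 h3
    rw [h3, map_mul (B.π.left.app D).hom, mul_comm (B.π.left.app D _), mul_assoc, h1, h2]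
  have hcovY : ∀ y : Y, ∃ i, y ∈ O i := by
    intro y
    obtain ⟨x, rfl⟩ := Φ.surjective_φ ψ hLR y
    obtain ⟨V, hV, hxV⟩ := hcov x.1 x.2
    refine ⟨⟨V, hV⟩, ?_⟩
    show x ∈ φ ⁻¹ᵁ O ⟨V, hV⟩
    rw [hO]
    exact hxV
  let c : ∀ i j : I, Γ(Y, O i ⊓ O j) := fun i j => fres inf_le_left (b i j)
  obtain ⟨L, g, hL, hg, htr⟩ := EGA73.exists_lineBundle hcovY c (fun i => by simp [c, hone, fres])
    fun i j l P hij hjl hil => by
      simp only [c, fres_fres]
      exact hco i j l P (hij.trans inf_le_left) (hjl.trans inf_le_left)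
  refine ⟨L, Amp73.isAmple_iff.2 ⟨hL, compactSpace_Y B ψ hLR, fun y => ?_⟩⟩
  obtain ⟨l, hl⟩ := hcovY y
  -- the global section of the section with index `l`
  obtain ⟨t, ht, -⟩ := TopCat.Sheaf.existsUnique_gluing' (⟨L.presheaf, L.isSheaf⟩ : TopCat.Sheaf Ab Y) O ⊤
    (fun i => homOfLE le_top) (fun z _ => Opens.mem_iSup.2 (hcovY z)) (fun i => b i l • g i) (by
      intro i j
      show res L (inf_le_left : O i ⊓ O j ≤ O i) (b i l • g i) = res L (inf_le_right : O i ⊓ O j ≤ O j) (b j l • g j)
      rw [res_smul, res_smul, htr i j, smul_smul, mul_comm]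
      exact congrArg (· • _) (hco i j l _ inf_le_left inf_le_right).symm)
  let σ := Var76.Frames.ofSection L t
  refine ⟨CohB1.genLocus L σ, Amp73.mem_genSet_one σ, ?_⟩
  have hgen : CohB1.genLocus L σ = O l := by
    have h : ∀ i, CohB1.genLocus L σ ⊓ O i = O i ⊓ O l := fun i => by
      rw [Amp73.genLocus_inf_eq_basicOpen σ (hg i) (c := b i l) ((ht i).symm.trans
        (Var76.Frames.val_ofSection L t (O i)).symm), hbW]
    refine le_antisymm (fun z hz => ?_) (le_trans (by rw [h l, inf_idem]) inf_le_left)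
    obtain ⟨i, hi⟩ := hcovY z
    exact ((h i).le ⟨hz, hi⟩).2
  rw [hgen]
  exact ⟨hl, isAffineOpen_opensRange _⟩

end Groth.Agent.GIT36.Glue
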