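import Groth.Agent.GIT36.Glue.Family
import Mathlib.AlgebraicGeometry.Morphisms.FiniteType

/-!
Gluing the affine quotients of a family of invariant affine opens.
-/

set_option autoImplicit false
set_option linter.unusedSectionVars false
set_option linter.style.haveILetI false
set_option backward.isDefEq.respectTransparency.types false

universe u

open CategoryTheory CategoryTheory.Limits MonoidalCategory CartesianMonoidalCategory AlgebraicGeometry
  TopologicalSpace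
open Groth.Agent.H98EqInt Groth.Agent.GIT36.Proj Groth.Agent.GIT36.FinAction

noncomputable section

namespace Groth.Agent.GIT36.Glue

open AffQuot

variable {k : Type u} [Field k] {G X : Over (Spec (CommRingCat.of k))} [GrpObj G] {a : AlgGrp.Action G X}
  {A : Type u} [CommRing A] [HopfAlgebra k A] (ψ : GMod80.sp k A ≅ G) [IsMonHom ψ.hom]
  (hLR : HopfRep.IsLinearlyReductive k A) (Φ : Family a)

/-- the intersection of two members -/
abbrev Family.inf (W W' : Φ.P) : Φ.P := ⟨W.1 ⊓ W'.1, Φ.inf_mem W.1 W.2 W'.1 W'.2⟩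

/-- the diagram of the quotients -/
def Family.diagram : Φ.P ⥤ Scheme.{u} where
  obj W := (Φ.Yp ψ hLR W).left
  map f := (Φ.map ψ hLR (leOfHom f)).left
  map_id W := congrArg (fun m => m.left) (Φ.map_self ψ hLR W)
  map_comp f g := congrArg (fun m => m.left) (Φ.map_map ψ hLR (leOfHom f) (leOfHom g)).symm

instance Family.isOpenImmersion_diagram_map {W W' : Φ.P} (f : W ⟶ W') :
    IsOpenImmersion ((Φ.diagram ψ hLR).map f) :=
  (Φ.map_spec ψ hLR (leOfHom f)).1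

theorem Family.mem_range_map_iff {W W' : Φ.P} (h : W.1 ≤ W'.1) (w : (openObj W'.1).left) :
    (Φ.φp ψ hLR W').left w ∈ Set.range (Φ.map ψ hLR h).left ↔ W'.1.ι w ∈ W.1 := by
  rw [← Set.mem_preimage, (Φ.map_spec ψ hLR h).2, range_inclLE]
  rfl

theorem Family.map_φp {W W' : Φ.P} (h : W.1 ≤ W'.1) (w : (openObj W.1).left) :
    (Φ.map ψ hLR h).left ((Φ.φp ψ hLR W).left w) = (Φ.φp ψ hLR W').left ((inclLE h).left w) := by
  rw [← Scheme.Hom.comp_apply, ← Scheme.Hom.comp_apply, ← Over.comp_left, ← Over.comp_left, Φ.φp_map ψ hLR]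

theorem Family.ι_incl {W W' : Φ.P} (h : W.1 ≤ W'.1) (w : (openObj W.1).left) :
    W'.1.ι ((inclLE h).left w) = W.1.ι w := by
  rw [← Scheme.Hom.comp_apply]
  exact congr($(X.left.homOfLE_ι h) w)

instance Family.isLocallyDirected : ((Φ.diagram ψ hLR) ⋙ Scheme.forget).IsLocallyDirected := by
  constructor
  intro i j m fi fj xi xj hx
  have hx' : (Φ.map ψ hLR (leOfHom fi)).left xi = (Φ.map ψ hLR (leOfHom fj)).left xj := hx
  obtain ⟨w, hw⟩ := Φ.surjective_φp ψ hLR m ((Φ.map ψ hLR (leOfHom fi)).left xi)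
  have hwi : m.1.ι w ∈ i.1 := (Φ.mem_range_map_iff ψ hLR (leOfHom fi) w).1 ⟨xi, hw.symm⟩
  have hwj : m.1.ι w ∈ j.1 := (Φ.mem_range_map_iff ψ hLR (leOfHom fj) w).1 ⟨xj, hx'.symm.trans hw.symm⟩
  let l := Φ.inf i j
  have hlm : l.1 ≤ m.1 := inf_le_left.trans (leOfHom fi)
  obtain ⟨v, hv⟩ : ∃ v : (openObj l.1).left, (inclLE hlm).left v = w :=
    ⟨⟨m.1.ι w, hwi, hwj⟩, m.1.ι.isOpenEmbedding.injective (Φ.ι_incl hlm _)⟩
  refine ⟨l, homOfLE (inf_le_left : l.1 ≤ i.1), homOfLE (inf_le_right : l.1 ≤ j.1), (Φ.φp ψ hLR l).left v, ?_, ?_⟩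
  · refine (Φ.map_spec ψ hLR (leOfHom fi)).1.base_open.injective ?_
    show (Φ.map ψ hLR (leOfHom fi)).left ((Φ.map ψ hLR _).left _) = (Φ.map ψ hLR (leOfHom fi)).left xi
    rw [← Scheme.Hom.comp_apply, ← Over.comp_left, Φ.map_map ψ hLR]
    exact (Φ.map_φp ψ hLR _ v).trans ((congrArg (Φ.φp ψ hLR m).left hv).trans hw)
  · refine (Φ.map_spec ψ hLR (leOfHom fj)).1.base_open.injective ?_
    show (Φ.map ψ hLR (leOfHom fj)).left ((Φ.map ψ hLR _).left _) = (Φ.map ψ hLR (leOfHom fj)).left xj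
    rw [← Scheme.Hom.comp_apply, ← Over.comp_left, Φ.map_map ψ hLR]
    exact ((Φ.map_φp ψ hLR _ v).trans ((congrArg (Φ.φp ψ hLR m).left hv).trans hw)).trans hx'

/-- the structure maps of the pieces -/
def Family.toBase : Cocone (Φ.diagram ψ hLR) where
  pt := Spec (CommRingCat.of k)
  ι :=
    { app := fun W => (Φ.Yp ψ hLR W).hom
      naturality := fun _ _ f => (Over.w (Φ.map ψ hLR (leOfHom f))).trans (Category.comp_id _).symm }

/-- the glued quotient -/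
def Family.Y : Over (Spec (CommRingCat.of k)) :=
  Over.mk (colimit.desc (Φ.diagram ψ hLR) (Φ.toBase ψ hLR))

/-- the chart of a member -/
def Family.ιY (W : Φ.P) : Φ.Yp ψ hLR W ⟶ Φ.Y ψ hLR :=
  Over.homMk (colimit.ι (Φ.diagram ψ hLR) W) (colimit.ι_desc _ _)

instance Family.isOpenImmersion_ιY (W : Φ.P) : IsOpenImmersion (Φ.ιY ψ hLR W).left :=
  inferInstanceAs (IsOpenImmersion (colimit.ι (Φ.diagram ψ hLR) W))

theorem Family.map_ιY {W W' : Φ.P} (h : W.1 ≤ W'.1) :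
    Φ.map ψ hLR h ≫ Φ.ιY ψ hLR W' = Φ.ιY ψ hLR W :=
  Over.OverMorphism.ext (colimit.w (Φ.diagram ψ hLR) (homOfLE h : W ⟶ W'))

theorem Family.exists_ιY (y : (Φ.Y ψ hLR).left) : ∃ (W : Φ.P) (z : (Φ.Yp ψ hLR W).left),
    (Φ.ιY ψ hLR W).left z = y :=
  Scheme.IsLocallyDirected.ι_jointly_surjective (Φ.diagram ψ hLR) y

/-- the union of the members -/
def Family.U : X.left.Opens := ⨆ W : Φ.P, W.1

theorem Family.le_U (W : Φ.P) : W.1 ≤ Φ.U := le_iSup (fun W : Φ.P => W.1) W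

theorem Family.inv_U : a.act.left ⁻¹ᵁ Φ.U = (snd G X).left ⁻¹ᵁ Φ.U := by
  simp only [Family.U, Scheme.Hom.preimage_iSup]
  exact iSup_congr fun W => Φ.inv W.1 W.2

/-- the action on the union -/
abbrev Family.actU : AlgGrp.Action G (openObj Φ.U) := resAct a Φ.U Φ.inv_U

theorem Family.exists_incl (x : (openObj Φ.U).left) : ∃ (W : Φ.P) (w : (openObj W.1).left),
    (inclLE (Φ.le_U W)).left w = x := by
  obtain ⟨W, hW⟩ := Opens.mem_iSup.1 x.2
  exact ⟨W, ⟨x.1, hW⟩, Φ.U.ι.isOpenEmbedding.injective (by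
    rw [← Scheme.Hom.comp_apply]
    exact congr($(X.left.homOfLE_ι (Φ.le_U W)) ⟨x.1, hW⟩))⟩

/-- the cover of the union by the members -/
def Family.cover : (openObj Φ.U).left.OpenCover :=
  .mkOfCovers Φ.P (fun W => (openObj W.1).left) (fun W => (inclLE (Φ.le_U W)).left) Φ.exists_incl
    (fun W => inferInstanceAs (IsOpenImmersion (X.left.homOfLE (Φ.le_U W))))

theorem Family.exists_φ : ∃ φ : openObj Φ.U ⟶ Φ.Y ψ hLR,
    ∀ W : Φ.P, inclLE (Φ.le_U W) ≫ φ = Φ.φp ψ hLR W ≫ Φ.ιY ψ hLR W := by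
  let f : ∀ W : Φ.P, (openObj W.1).left ⟶ (Φ.Y ψ hLR).left := fun W => (Φ.φp ψ hLR W ≫ Φ.ιY ψ hLR W).left
  have key : ∀ (W W' : Φ.P) {T : Scheme.{u}} (p : T ⟶ (openObj W.1).left) (q : T ⟶ (openObj W'.1).left),
      p ≫ (inclLE (Φ.le_U W)).left = q ≫ (inclLE (Φ.le_U W')).left → p ≫ f W = q ≫ f W' := by
    intro W W' T p q hpq
    have hι : p ≫ W.1.ι = q ≫ W'.1.ι := by
      have h := congrArg (· ≫ Φ.U.ι) hpq
      simpa using h
    let l := Φ.inf W W'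
    let m : T ⟶ (openObj l.1).left := IsOpenImmersion.lift l.1.ι (p ≫ W.1.ι) (by
      rintro _ ⟨z, rfl⟩
      rw [Scheme.Opens.range_ι]
      refine ⟨(p z).2, ?_⟩
      rw [hι]
      exact (q z).2)
    have hm : m ≫ l.1.ι = p ≫ W.1.ι := IsOpenImmersion.lift_fac _ _ _
    have h1 : p = m ≫ (inclLE (inf_le_left : l.1 ≤ W.1)).left := by
      rw [← cancel_mono W.1.ι, Category.assoc]
      exact hm.symm.trans (congrArg (m ≫ ·) (X.left.homOfLE_ι (inf_le_left : l.1 ≤ W.1)).symm)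
    have h2 : q = m ≫ (inclLE (inf_le_right : l.1 ≤ W'.1)).left := by
      rw [← cancel_mono W'.1.ι, Category.assoc, ← hι]
      exact hm.symm.trans (congrArg (m ≫ ·) (X.left.homOfLE_ι (inf_le_right : l.1 ≤ W'.1)).symm)
    have h3 : ∀ (V : Φ.P) (h : l.1 ≤ V.1), (inclLE h).left ≫ f V = f l := fun V h => by
      simp only [f, ← Over.comp_left]
      rw [← reassoc_of% Φ.φp_map ψ hLR h, Φ.map_ιY ψ hLR]
    rw [h1, h2, Category.assoc, Category.assoc, h3, h3]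
  let F := Scheme.Cover.glueMorphisms Φ.cover f fun W W' => key W W' _ _ pullback.condition
  have hF : ∀ W : Φ.P, (inclLE (Φ.le_U W)).left ≫ F = f W := fun W =>
    Scheme.Cover.ι_glueMorphisms Φ.cover f _ W
  refine ⟨Over.homMk F ?_, fun W => Over.OverMorphism.ext (hF W)⟩
  refine Scheme.Cover.hom_ext Φ.cover _ _ fun W => ?_
  show (inclLE (Φ.le_U W)).left ≫ F ≫ (Φ.Y ψ hLR).hom = (inclLE (Φ.le_U W)).left ≫ (openObj Φ.U).hom
  rw [reassoc_of% hF W, Over.w (inclLE (Φ.le_U W))]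
  exact Over.w (Φ.φp ψ hLR W ≫ Φ.ιY ψ hLR W)

/-- the glued quotient morphism -/
def Family.φ : openObj Φ.U ⟶ Φ.Y ψ hLR := (Φ.exists_φ ψ hLR).choose

theorem Family.incl_φ (W : Φ.P) : inclLE (Φ.le_U W) ≫ Φ.φ ψ hLR = Φ.φp ψ hLR W ≫ Φ.ιY ψ hLR W :=
  (Φ.exists_φ ψ hLR).choose_spec W

theorem Family.φ_apply (W : Φ.P) (w : (openObj W.1).left) :
    (Φ.φ ψ hLR).left ((inclLE (Φ.le_U W)).left w) = (Φ.ιY ψ hLR W).left ((Φ.φp ψ hLR W).left w) := by
  rw [← Scheme.Hom.comp_apply, ← Scheme.Hom.comp_apply, ← Over.comp_left, ← Over.comp_left, Φ.incl_φ ψ hLR]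

theorem Family.surjective_φ : Function.Surjective (Φ.φ ψ hLR).left.base := fun y => by
  obtain ⟨W, z, rfl⟩ := Φ.exists_ιY ψ hLR y
  obtain ⟨w, rfl⟩ := Φ.surjective_φp ψ hLR W z
  exact ⟨_, Φ.φ_apply ψ hLR W w⟩

/-- the members are saturated -/
theorem Family.preimage_range_ιY (W : Φ.P) :
    (Φ.φ ψ hLR).left ⁻¹ᵁ (Φ.ιY ψ hLR W).left.opensRange = Φ.U.ι ⁻¹ᵁ W.1 := by
  ext x
  obtain ⟨W', w, rfl⟩ := Φ.exists_incl x
  show (Φ.φ ψ hLR).left _ ∈ Set.range (Φ.ιY ψ hLR W).left ↔ Φ.U.ι ((inclLE (Φ.le_U W')).left w) ∈ W.1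
  rw [Φ.φ_apply ψ hLR, show Φ.U.ι ((inclLE (Φ.le_U W')).left w) = W'.1.ι w from by
    rw [← Scheme.Hom.comp_apply]
    exact congr($(X.left.homOfLE_ι (Φ.le_U W')) w)]
  constructor
  · rintro ⟨z, hz⟩
    obtain ⟨l, fi, fj, v, -, hv⟩ := (Scheme.IsLocallyDirected.ι_eq_ι_iff (Φ.diagram ψ hLR)).1 hz
    exact leOfHom fi ((Φ.mem_range_map_iff ψ hLR (leOfHom fj) w).1 ⟨v, hv⟩)
  · intro hw
    let l := Φ.inf W W'
    obtain ⟨v, hv⟩ := (Φ.mem_range_map_iff ψ hLR (W := l) (inf_le_right : l.1 ≤ W'.1) w).2 (show W'.1.ι w ∈ W.1 ⊓ W'.1 from ⟨hw, w.2⟩)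
    refine ⟨(Φ.map ψ hLR (inf_le_left : l.1 ≤ W.1)).left v, ?_⟩
    rw [← hv, ← Scheme.Hom.comp_apply, ← Scheme.Hom.comp_apply, ← Over.comp_left, ← Over.comp_left,
      Φ.map_ιY ψ hLR, Φ.map_ιY ψ hLR]

theorem Family.isInvariant_φ : GIT.IsInvariant Φ.actU (Φ.φ ψ hLR) := by
  apply Over.OverMorphism.ext
  refine Scheme.hom_ext_of_forall _ _ fun p => ?_
  obtain ⟨W, w, hw⟩ := Φ.exists_incl ((snd G (openObj Φ.U)).left p)
  let i := G ◁ inclLE (Φ.le_U W)
  haveI : IsOpenImmersion (inclLE (Φ.le_U W)).left :=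
    inferInstanceAs (IsOpenImmersion (X.left.homOfLE (Φ.le_U W)))
  haveI : IsOpenImmersion i.left :=
    MorphismProperty.of_isPullback (P := @IsOpenImmersion)
      (Quot.isPullback_whiskerLeft_left G (inclLE (Φ.le_U W))).flip inferInstance
  refine ⟨i.left.opensRange, ?_, ?_⟩
  · obtain ⟨q, hq, -⟩ := Scheme.exists_preimage_of_isPullback
      (Quot.isPullback_whiskerLeft_left G (inclLE (Φ.le_U W))) p w hw.symm
    exact ⟨q, hq⟩
  · rw [← cancel_epi i.left.isoOpensRange.hom, Scheme.Hom.isoOpensRange_hom_ι_assoc,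
      Scheme.Hom.isoOpensRange_hom_ι_assoc, ← Over.comp_left, ← Over.comp_left]
    refine congrArg (fun m : _ ⟶ Φ.Y ψ hLR => m.left) ?_
    rw [← reassoc_of% resAct_inclLE a (Φ.inv W.1 W.2) Φ.inv_U (Φ.le_U W), Φ.incl_φ ψ hLR,
      whiskerLeft_snd_assoc, Φ.incl_φ ψ hLR, reassoc_of% (Φ.affQ ψ hLR W).inv]

include ψ hLR in
/-- the glued morphism is an affine quotient locally on the base -/
theorem Family.locAffQ : LocAffQ Φ.actU (Φ.φ ψ hLR) := by
  refine ⟨Φ.isInvariant_φ ψ hLR, fun y => ?_⟩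
  obtain ⟨W, z, rfl⟩ := Φ.exists_ιY ψ hLR y
  let φ := Φ.φ ψ hLR
  let O := (Φ.ιY ψ hLR W).left.opensRange
  haveI : IsOpenImmersion (inclLE (Φ.le_U W)).left :=
    inferInstanceAs (IsOpenImmersion (X.left.homOfLE (Φ.le_U W)))
  haveI : IsOpenImmersion (prV φ O).left := inferInstanceAs (IsOpenImmersion (φ.left ⁻¹ᵁ O).ι)
  haveI : IsOpenImmersion (gV O).left := inferInstanceAs (IsOpenImmersion O.ι)
  have hr : Set.range (prV φ O).left = Set.range (inclLE (Φ.le_U W)).left := by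
    rw [range_inclLE]
    exact (Scheme.Opens.range_ι _).trans (congrArg SetLike.coe (Φ.preimage_range_ιY ψ hLR W))
  let e : totV φ O ≅ openObj W.1 :=
    Over.isoMk (IsOpenImmersion.isoOfRangeEq (prV φ O).left (inclLE (Φ.le_U W)).left hr) (by
      rw [← Over.w (inclLE (Φ.le_U W)), IsOpenImmersion.isoOfRangeEq_hom_fac_assoc]
      exact Over.w (prV φ O))
  have he : e.hom ≫ inclLE (Φ.le_U W) = prV φ O :=
    Over.OverMorphism.ext (IsOpenImmersion.isoOfRangeEq_hom_fac (prV φ O).left (inclLE (Φ.le_U W)).left hr)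
  have hr' : Set.range (gV O).left = Set.range (Φ.ιY ψ hLR W).left := O.range_ι
  let b : baseV O ≅ Φ.Yp ψ hLR W :=
    Over.isoMk (IsOpenImmersion.isoOfRangeEq (gV O).left (Φ.ιY ψ hLR W).left hr') (by
      rw [← Over.w (Φ.ιY ψ hLR W), IsOpenImmersion.isoOfRangeEq_hom_fac_assoc]
      exact Over.w (gV O))
  have hb : b.hom ≫ Φ.ιY ψ hLR W = gV O :=
    Over.OverMorphism.ext (IsOpenImmersion.isoOfRangeEq_hom_fac (gV O).left (Φ.ιY ψ hLR W).left hr')
  haveI : Mono (Φ.ιY ψ hLR W) := Over.mono_of_mono_left _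
  haveI : Mono (inclLE (Φ.le_U W)) := Over.mono_of_mono_left _
  have hsq : e.hom ≫ Φ.φp ψ hLR W = phiV φ O ≫ b.hom := by
    rw [← cancel_mono (Φ.ιY ψ hLR W), Category.assoc, Category.assoc, hb, ← Φ.incl_φ ψ hLR, reassoc_of% he]
    exact (isPullback_piece φ O).w
  have hpb : IsPullback e.hom (phiV φ O) (Φ.φp ψ hLR W) b.hom := IsPullback.of_horiz_isIso ⟨hsq⟩
  haveI : IsAffine (baseV O).left := isAffineOpen_opensRange (Φ.ιY ψ hLR W).left
  haveI : IsAffine (totV φ O).left :=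
    @IsAffine.of_isIso _ _ e.hom.left (((Over.forget _).mapIso e).isIso_hom) (isAffine_openObj Φ W)
  refine ⟨O, isAffineOpen_opensRange _, ⟨z, rfl⟩, inferInstance,
    (Φ.affQ ψ hLR W).baseChange ψ hLR e.hom (phiV φ O) b.hom hpb _ ?_ (bcAction_invariant _ _)⟩
  rw [← cancel_mono (inclLE (Φ.le_U W)), Category.assoc, he, bcAction_act_fst, Category.assoc,
    resAct_inclLE a _ Φ.inv_U, ← whiskerLeft_comp_assoc, he]

theorem Family.locallyOfFiniteType [LocallyOfFiniteType X.hom] : LocallyOfFiniteType (Φ.Y ψ hLR).hom := by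
  refine IsZariskiLocalAtSource.of_openCover (P := @LocallyOfFiniteType)
    (Scheme.IsLocallyDirected.openCover (Φ.diagram ψ hLR)) fun W => ?_
  have : LocallyOfFiniteType (Φ.Yp ψ hLR W).hom := Φ.locallyOfFiniteType_Yp ψ hLR W
  rw [← Over.w (Φ.ιY ψ hLR W)] at this
  exact this

end Groth.Agent.GIT36.Glue
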