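import Groth.Agent.GIT36.Glue.LocAffQ
import Groth.Agent.GIT36.FinAction.Glue
import Groth.Agent.GIT36.Sections.Bun

/-!
Families of invariant affine opens with transition functions, and their affine quotients.
-/

set_option autoImplicit false
set_option linter.unusedSectionVars false
set_option linter.style.haveILetI false
set_option backward.isDefEq.respectTransparency.types false

universe u

open CategoryTheory CategoryTheory.Limits MonoidalCategory CartesianMonoidalCategory MonObj GrpObj AlgebraicGeometry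
open Groth.Agent.H98EqInt Groth.Agent.GIT36.Proj Groth.Agent.GIT36.FinAction

noncomputable section

namespace Groth.Agent.GIT36.Glue

open AffQuot

section Inv

variable {S : Scheme.{u}} {G X : Over S} [GrpObj G] (a : AlgGrp.Action G X)

/-- invariant functions on an invariant open -/
def InvOn {W : X.left.Opens} (hW : a.act.left ⁻¹ᵁ W = (snd G X).left ⁻¹ᵁ W) (r : Γ(X.left, W)) : Prop :=
  a.act.left.appLE W ((snd G X).left ⁻¹ᵁ W) hW.ge r = (snd G X).left.appLE W ((snd G X).left ⁻¹ᵁ W) le_rfl r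

/-- restriction along the inclusion of opens -/
theorem appTop_inclLE {U W : X.left.Opens} (h : U ≤ W) (r : Γ(X.left, W)) :
    (inclLE h).left.appTop (W.topIso.inv r) = U.topIso.inv (X.left.presheaf.map (homOfLE h).op r) := by
  have e1 := Quot.appTop_topIso_inv W (inclLE h).left r (fun p _ => ((inclLE h).left p).2)
  have e2 := Quot.appTop_topIso_inv U (𝟙 U.toScheme) (X.left.presheaf.map (homOfLE h).op r) (fun p _ => p.2)
  rw [e1]
  refine Eq.trans ?_ (e2.symm.trans (by rw [Scheme.Hom.id_appTop]; rfl))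
  rw [← CommRingCat.comp_apply, Scheme.Hom.map_appLE]
  exact congr($(LineBundle.appLE_congr_hom ((X.left.homOfLE_ι h).trans (Category.id_comp U.ι).symm) _ _).hom r)

theorem preimage_basicOpen_topIso {W : X.left.Opens} (r : Γ(X.left, W)) :
    W.ι ''ᵁ W.toScheme.basicOpen (W.topIso.inv r) = X.left.basicOpen r :=
  Scheme.Opens.ι_image_basicOpen_topIso_inv W r

theorem mem_basicOpen_topIso {W : X.left.Opens} (r : Γ(X.left, W)) (x : W.toScheme) :
    x ∈ W.toScheme.basicOpen (W.topIso.inv r) ↔ W.ι x ∈ X.left.basicOpen r := by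
  rw [← preimage_basicOpen_topIso r]
  refine ⟨fun h => ⟨x, h, rfl⟩, ?_⟩
  rintro ⟨y, hy, e⟩
  rwa [← W.ι.isOpenEmbedding.injective e]

theorem range_inclLE {U W : X.left.Opens} (h : U ≤ W) :
    Set.range (inclLE h).left = W.ι.base ⁻¹' (U : Set X.left) := by
  rw [range_eq_preimage_range (inclLE h).left W.ι]
  exact congrArg _ ((congrArg (fun m : U.toScheme ⟶ X.left => Set.range m) (X.left.homOfLE_ι h)).trans
    U.range_ι)

theorem inclLE_comp' {U V W : X.left.Opens} (h : U ≤ V) (h' : V ≤ W) :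
    inclLE h ≫ inclLE h' = inclLE (h.trans h') :=
  Over.OverMorphism.ext (X.left.homOfLE_homOfLE h h')

theorem resAct_inclLE {U W : X.left.Opens} (hU : a.act.left ⁻¹ᵁ U = (snd G X).left ⁻¹ᵁ U)
    (hW : a.act.left ⁻¹ᵁ W = (snd G X).left ⁻¹ᵁ W) (h : U ≤ W) :
    (resAct a U hU).act ≫ inclLE h = (G ◁ inclLE h) ≫ (resAct a W hW).act := by
  refine openIncl_cancel ?_
  rw [Category.assoc, inclLE_comp, resAct_comp, Category.assoc, resAct_comp, ← whiskerLeft_comp_assoc,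
    inclLE_comp]

theorem inv_of_invOn {W : X.left.Opens} {hW : a.act.left ⁻¹ᵁ W = (snd G X).left ⁻¹ᵁ W} {r : Γ(X.left, W)}
    (hr : InvOn a hW r) : (resAct a W hW).act.left.appTop (W.topIso.inv r) =
      (snd G (openObj W)).left.appTop (W.topIso.inv r) := by
  let i := (G ◁ openIncl W).left
  have hi : (⊤ : (G ⊗ openObj W).left.Opens) ≤ i ⁻¹ᵁ ((snd G X).left ⁻¹ᵁ W) := fun p _ => by
    show ((G ◁ openIncl W).left ≫ (snd G X).left) p ∈ W
    rw [← Over.comp_left, whiskerLeft_snd]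
    exact ((snd G (openObj W)).left p).2
  have key : ∀ (σ' : G ⊗ openObj W ⟶ openObj W) (σ : G ⊗ X ⟶ X)
      (hσ : (snd G X).left ⁻¹ᵁ W ≤ σ.left ⁻¹ᵁ W), σ' ≫ openIncl W = (G ◁ openIncl W) ≫ σ →
      σ'.left.appTop (W.topIso.inv r) = i.appLE _ ⊤ hi (σ.left.appLE W _ hσ r) := by
    intro σ' σ hσ hσσ
    have he : σ'.left ≫ W.ι = i ≫ σ.left := congrArg (fun m => m.left) hσσ
    rw [Quot.appTop_topIso_inv W σ'.left r (fun p _ => (σ'.left p).2), ← CommRingCat.comp_apply,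
      Scheme.Hom.appLE_comp_appLE]
    exact congr($(LineBundle.appLE_congr_hom he _ _).hom r)
  rw [key _ a.act hW.ge (resAct_comp a W hW), key _ (snd G X) le_rfl (whiskerLeft_snd ..).symm]
  exact congrArg _ hr

end Inv

variable {k : Type u} [Field k] {G X : Over (Spec (CommRingCat.of k))} [GrpObj G] (a : AlgGrp.Action G X)

/-- a family of invariant affine opens with invertible transition functions -/
structure Family where
  /-- the members -/
  P : Set X.left.Opens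
  affine : ∀ W ∈ P, IsAffineOpen W
  inv : ∀ W ∈ P, a.act.left ⁻¹ᵁ W = (snd G X).left ⁻¹ᵁ W
  inf_mem : ∀ W ∈ P, ∀ W' ∈ P, W ⊓ W' ∈ P
  pair : ∀ W (hW : W ∈ P) W' (hW' : W' ∈ P), ∃ (s : Γ(X.left, W)) (t : Γ(X.left, W')),
    InvOn a (inv W hW) s ∧ InvOn a (inv W' hW') t ∧ X.left.basicOpen s = W ⊓ W' ∧
      X.left.basicOpen t = W ⊓ W' ∧
      X.left.presheaf.map (homOfLE (inf_le_left : W ⊓ W' ≤ W)).op s *
        X.left.presheaf.map (homOfLE (inf_le_right : W ⊓ W' ≤ W')).op t = 1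

variable {a} {A : Type u} [CommRing A] [HopfAlgebra k A] (ψ : GMod80.sp k A ≅ G) [IsMonHom ψ.hom]
  (hLR : HopfRep.IsLinearlyReductive k A) (Φ : Family a)

/-- the action on a member -/
abbrev Family.act (W : Φ.P) : AlgGrp.Action G (openObj W.1) := resAct a W.1 (Φ.inv W.1 W.2)

instance isAffine_openObj (W : Φ.P) : IsAffine (openObj W.1).left := Φ.affine W.1 W.2

include ψ hLR in
theorem Family.exists_piece (W : Φ.P) : ∃ (Y : Over (Spec (CommRingCat.of k))) (φ : openObj W.1 ⟶ Y),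
    IsAffine Y.left ∧ AffQ (Φ.act W) φ ∧ (LocallyOfFiniteType X.hom → LocallyOfFiniteType Y.hom) := by
  obtain ⟨Y, φ, h₁, h₂, -, h₃⟩ := exists_affQ ψ hLR (openObj W.1) (Φ.act W)
  exact ⟨Y, φ, h₁, h₂, fun h => h₃ (by haveI := h; exact inferInstanceAs (LocallyOfFiniteType (W.1.ι ≫ X.hom)))⟩

/-- the quotient of a member -/
def Family.Yp (W : Φ.P) : Over (Spec (CommRingCat.of k)) := (Φ.exists_piece ψ hLR W).choose

/-- the quotient morphism of a member -/
def Family.φp (W : Φ.P) : openObj W.1 ⟶ Φ.Yp ψ hLR W := (Φ.exists_piece ψ hLR W).choose_spec.choose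

instance Family.isAffine_Yp (W : Φ.P) : IsAffine (Φ.Yp ψ hLR W).left :=
  (Φ.exists_piece ψ hLR W).choose_spec.choose_spec.1

theorem Family.affQ (W : Φ.P) : AffQ (Φ.act W) (Φ.φp ψ hLR W) :=
  (Φ.exists_piece ψ hLR W).choose_spec.choose_spec.2.1

theorem Family.locallyOfFiniteType_Yp [LocallyOfFiniteType X.hom] (W : Φ.P) :
    LocallyOfFiniteType (Φ.Yp ψ hLR W).hom :=
  (Φ.exists_piece ψ hLR W).choose_spec.choose_spec.2.2 inferInstance

theorem Family.surjective_φp (W : Φ.P) : Function.Surjective (Φ.φp ψ hLR W).left.base :=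
  Quot.surjective_of_isUnivCatQuot (AffQuot.isUnivCatQuot ψ hLR (Φ.affQ ψ hLR W))

theorem Family.isInvariant_incl {W W' : Φ.P} (h : W.1 ≤ W'.1) :
    GIT.IsInvariant (Φ.act W) (inclLE h ≫ Φ.φp ψ hLR W') := by
  rw [GIT.IsInvariant, ← Category.assoc, resAct_inclLE a _ (Φ.inv W'.1 W'.2), Category.assoc, (Φ.affQ ψ hLR W').inv,
    whiskerLeft_snd_assoc]

theorem Family.existsUnique_map {W W' : Φ.P} (h : W.1 ≤ W'.1) :
    ∃! χ : Φ.Yp ψ hLR W ⟶ Φ.Yp ψ hLR W', Φ.φp ψ hLR W ≫ χ = inclLE h ≫ Φ.φp ψ hLR W' :=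
  (AffQuot.isUnivCatQuot ψ hLR (Φ.affQ ψ hLR W)).1.2 _ _ (Φ.isInvariant_incl ψ hLR h)

/-- the morphism between the quotients of nested members -/
def Family.map {W W' : Φ.P} (h : W.1 ≤ W'.1) : Φ.Yp ψ hLR W ⟶ Φ.Yp ψ hLR W' :=
  (Φ.existsUnique_map ψ hLR h).choose

theorem Family.φp_map {W W' : Φ.P} (h : W.1 ≤ W'.1) :
    Φ.φp ψ hLR W ≫ Φ.map ψ hLR h = inclLE h ≫ Φ.φp ψ hLR W' :=
  (Φ.existsUnique_map ψ hLR h).choose_spec.1

theorem Family.hom_ext {W : Φ.P} {Z : Over (Spec (CommRingCat.of k))} {f g : Φ.Yp ψ hLR W ⟶ Z}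
    (h : Φ.φp ψ hLR W ≫ f = Φ.φp ψ hLR W ≫ g) : f = g :=
  ((AffQuot.isUnivCatQuot ψ hLR (Φ.affQ ψ hLR W)).1.2 _ (Φ.φp ψ hLR W ≫ g) (by
    rw [GIT.IsInvariant, reassoc_of% (Φ.affQ ψ hLR W).inv])).unique h rfl

theorem Family.map_self (W : Φ.P) : Φ.map ψ hLR (le_refl W.1) = 𝟙 _ :=
  Φ.hom_ext ψ hLR (by
    rw [Φ.φp_map ψ hLR, Category.comp_id,
      show inclLE (le_refl W.1) = 𝟙 (openObj W.1) from Over.OverMorphism.ext (X.left.homOfLE_rfl W.1),
      Category.id_comp])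

theorem Family.map_map {W W' W'' : Φ.P} (h : W.1 ≤ W'.1) (h' : W'.1 ≤ W''.1) :
    Φ.map ψ hLR h ≫ Φ.map ψ hLR h' = Φ.map ψ hLR (h.trans h') :=
  Φ.hom_ext ψ hLR (by
    rw [reassoc_of% Φ.φp_map ψ hLR h, Φ.φp_map ψ hLR, Φ.φp_map ψ hLR, ← Category.assoc, inclLE_comp'])

/-- functions on the quotient of a member are the invariant functions -/
theorem Family.exists_fn (W : Φ.P) {r : Γ(X.left, W.1)} (hr : InvOn a (Φ.inv W.1 W.2) r) :
    ∃ r₀ : Γ((Φ.Yp ψ hLR W).left, ⊤), (Φ.φp ψ hLR W).left.appTop r₀ = W.1.topIso.inv r := by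
  have : W.1.topIso.inv r ∈ Set.range (Φ.φp ψ hLR W).left.appTop := by
    rw [(Φ.affQ ψ hLR W).range]
    exact inv_of_invOn a hr
  exact this

/-- the image of a smaller member in the quotient of a bigger one -/
theorem Family.map_spec {W W' : Φ.P} (h : W.1 ≤ W'.1) :
    IsOpenImmersion (Φ.map ψ hLR h).left ∧
      (Φ.φp ψ hLR W').left.base ⁻¹' Set.range (Φ.map ψ hLR h).left = Set.range (inclLE h).left := by
  obtain ⟨-, t, -, ht, -, htb, -⟩ := Φ.pair W.1 W.2 W'.1 W'.2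
  rw [inf_eq_left.2 h] at htb
  obtain ⟨t₀, ht₀⟩ := Φ.exists_fn ψ hLR W' ht
  let q := Φ.φp ψ hLR W'
  let O : (Φ.Yp ψ hLR W').left.Opens := (Φ.Yp ψ hLR W').left.basicOpen t₀
  have hO : IsAffineOpen O := (isAffineOpen_top _).basicOpen t₀
  have hpre : q.left.base ⁻¹' (O : Set (Φ.Yp ψ hLR W').left) = Set.range (inclLE h).left := by
    rw [range_inclLE]
    ext x
    have e : x ∈ q.left ⁻¹ᵁ O ↔ x ∈ (openObj W'.1).left.basicOpen (q.left.appTop t₀) := by
      rw [Scheme.Hom.preimage_basicOpen_top]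
    rw [ht₀] at e
    refine e.trans ((mem_basicOpen_topIso t x).trans ?_)
    rw [htb]
    rfl
  have heq₀ : (Φ.act W').act ≫ 𝟙 _ = (G ◁ 𝟙 _) ≫ (Φ.act W').act := by
    rw [MonoidalCategory.whiskerLeft_id, Category.id_comp, Category.comp_id]
  have hQ := Φ.affQ ψ hLR W'
  haveI : IsAffine (totV q O).left := isAffine_totV q (IsPullback.of_id_fst (f := q)) O hO
  haveI : IsAffine (baseV O).left := hO
  have hQO : AffQ (actV q hQ.inv O) (phiV q O) :=
    affQ_piece ψ hLR hQ q (IsPullback.of_id_fst (f := q)) heq₀ hQ.inv O hO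
  haveI : IsOpenImmersion (inclLE h).left := inferInstanceAs (IsOpenImmersion (X.left.homOfLE h))
  haveI : IsOpenImmersion (prV q O).left := inferInstanceAs (IsOpenImmersion (q.left ⁻¹ᵁ O).ι)
  have hr : Set.range (inclLE h).left = Set.range (prV q O).left := by
    rw [← hpre]
    exact (Scheme.Opens.range_ι (q.left ⁻¹ᵁ O)).symm
  let e : openObj W.1 ≅ totV q O :=
    Over.isoMk (IsOpenImmersion.isoOfRangeEq (inclLE h).left (prV q O).left hr) (by
      rw [← Over.w (prV q O), IsOpenImmersion.isoOfRangeEq_hom_fac_assoc, Over.w])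
  have he : e.hom ≫ prV q O = inclLE h :=
    Over.OverMorphism.ext (IsOpenImmersion.isoOfRangeEq_hom_fac (inclLE h).left (prV q O).left hr)
  haveI : Mono (prV q O) := Over.mono_of_mono_left _
  haveI : Mono (inclLE h) := Over.mono_of_mono_left _
  have heq : (Φ.act W).act ≫ e.hom = (G ◁ e.hom) ≫ (actV q hQ.inv O).act := by
    rw [← cancel_mono (prV q O), Category.assoc, he, Category.assoc, bcAction_act_fst, ← whiskerLeft_comp_assoc,
      he, resAct_inclLE]
  have hinv₁ : GIT.IsInvariant (Φ.act W) (e.hom ≫ phiV q O) := by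
    rw [GIT.IsInvariant, reassoc_of% heq, hQO.inv, whiskerLeft_snd_assoc]
  have heq' : (actV q hQ.inv O).act ≫ e.inv = (G ◁ e.inv) ≫ (Φ.act W).act := by
    rw [← cancel_mono e.hom, Category.assoc, e.inv_hom_id, Category.comp_id, Category.assoc, heq,
      ← whiskerLeft_comp_assoc, e.inv_hom_id, MonoidalCategory.whiskerLeft_id, Category.id_comp]
  have hinv₂ : GIT.IsInvariant (actV q hQ.inv O) (e.inv ≫ Φ.φp ψ hLR W) := by
    rw [GIT.IsInvariant, reassoc_of% heq', (Φ.affQ ψ hLR W).inv, whiskerLeft_snd_assoc]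
  obtain ⟨c, hc, -⟩ := (AffQuot.isUnivCatQuot ψ hLR (Φ.affQ ψ hLR W)).1.2 _ _ hinv₁
  obtain ⟨d, hd, hdu⟩ := (AffQuot.isUnivCatQuot ψ hLR hQO).1.2 _ _ hinv₂
  have hcd : c ≫ d = 𝟙 _ := Φ.hom_ext ψ hLR (by
    rw [reassoc_of% hc, hd, e.hom_inv_id_assoc, Category.comp_id])
  have hdc : d ≫ c = 𝟙 _ := by
    refine ((AffQuot.isUnivCatQuot ψ hLR hQO).1.2 _ _ hQO.inv).unique ?_ (Category.comp_id _)
    rw [reassoc_of% hd, hc, e.inv_hom_id_assoc]
  haveI : IsIso c := ⟨d, hcd, hdc⟩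
  have hmap : Φ.map ψ hLR h = c ≫ gV O := Φ.hom_ext ψ hLR (by
    rw [Φ.φp_map ψ hLR, reassoc_of% hc, ← (isPullback_piece q O).w, reassoc_of% he])
  haveI : IsIso c.left := ((Over.forget _).mapIso (asIso c)).isIso_hom
  haveI : IsOpenImmersion (gV O).left := inferInstanceAs (IsOpenImmersion O.ι)
  refine ⟨by rw [hmap, Over.comp_left]; infer_instance, ?_⟩
  have hrange : Set.range (Φ.map ψ hLR h).left = (O : Set (Φ.Yp ψ hLR W').left) := by
    rw [hmap, Over.comp_left, Scheme.Hom.comp_base, TopCat.coe_comp, Set.range_comp,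
      show Set.range c.left.base = Set.univ from Set.range_eq_univ.2 c.left.homeomorph.surjective, Set.image_univ]
    exact O.range_ι
  rw [hrange]
  exact hpre

end Groth.Agent.GIT36.Glue
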