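import Groth.Agent.GIT36.AffQuot.Main
import Groth.Agent.GIT36.Proj.Restrict

/-!
Morphisms that are affine quotients locally on the base.
-/

set_option autoImplicit false
set_option linter.unusedSectionVars false
set_option linter.style.haveILetI false
set_option backward.isDefEq.respectTransparency.types false

universe u

open CategoryTheory CategoryTheory.Limits MonoidalCategory CartesianMonoidalCategory MonObj GrpObj AlgebraicGeometry Topology
open Groth.Agent.H98EqInt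

noncomputable section

namespace Groth.Agent.GIT36.Glue

open AffQuot

/-- closedness of orbits passes to invariant opens -/
theorem isClosedAction_of_openImmersion {S : Scheme.{u}} {G X X' : Over S} [GrpObj G] {a : AlgGrp.Action G X}
    {a' : AlgGrp.Action G X'} (j : X' ⟶ X) [IsOpenImmersion j.left] (hj : a'.act ≫ j = (G ◁ j) ≫ a.act)
    (hc : GIT.IsClosedAction a) : GIT.IsClosedAction a' := by
  intro Ω _ _ T eT f
  let i : X' ⊗ T ⟶ X ⊗ T := j ▷ T
  haveI : IsOpenImmersion i.left :=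
    MorphismProperty.of_isPullback (P := @IsOpenImmersion) (Quot.isPullback_whiskerRight_left T j).flip
      inferInstance
  have e : GIT.psi a' f ≫ i = GIT.psi a (f ≫ j) := by
    apply CartesianMonoidalCategory.hom_ext
    · simp only [GIT.psi, i, Category.assoc, whiskerRight_fst, lift_fst_assoc, lift_fst]
      rw [hj, MonoidalCategory.whiskerLeft_comp_assoc]
    · simp only [GIT.psi, i, Category.assoc, whiskerRight_snd, lift_snd]
  have h := (hc Ω T eT (f ≫ j)).preimage i.left.continuous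
  convert h using 1
  ext p
  rw [Set.mem_preimage, ← e, Over.comp_left, Scheme.Hom.comp_base, TopCat.coe_comp, Set.range_comp]
  exact (Function.Injective.mem_set_image i.left.isOpenEmbedding.injective).symm

variable {k : Type u} [Field k] {G : Over (Spec (CommRingCat.of k))} [GrpObj G]

/-- affine quotient locally on the base -/
structure LocAffQ {X Y : Over (Spec (CommRingCat.of k))} (a : AlgGrp.Action G X) (φ : X ⟶ Y) : Prop where
  inv : GIT.IsInvariant a φ
  piece : ∀ y : Y.left, ∃ O : Y.left.Opens, IsAffineOpen O ∧ y ∈ O ∧ IsAffine (totV φ O).left ∧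
    AffQ (actV φ inv O) (phiV φ O)

variable {A : Type u} [CommRing A] [HopfAlgebra k A] (ψ : GMod80.sp k A ≅ G) [IsMonHom ψ.hom]
  (hLR : HopfRep.IsLinearlyReductive k A)
  {X Y : Over (Spec (CommRingCat.of k))} {a : AlgGrp.Action G X} {φ : X ⟶ Y}

theorem LocAffQ.isAffineHom (h : LocAffQ a φ) : IsAffineHom φ.left :=
  isAffineHom_of_forall_exists_isAffineOpen φ.left fun y => by
    obtain ⟨O, hO, hy, hT, -⟩ := h.piece y
    exact ⟨O, hy, hO, hT⟩

include ψ hLR in
/-- the pieces of a base change form a basis -/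
theorem LocAffQ.pieceBasis_bc (h : LocAffQ a φ) {X' Y' : Over (Spec (CommRingCat.of k))}
    {pr : X' ⟶ X} {φ' : X' ⟶ Y'} {g : Y' ⟶ Y} (hpb : IsPullback pr φ' φ g)
    {a' : AlgGrp.Action G X'} (heq : a'.act ≫ pr = (G ◁ pr) ≫ a.act) (hinv : GIT.IsInvariant a' φ') :
    PieceBasis φ' hinv := by
  intro N y hy
  obtain ⟨O, hO, hyO, hT, hQ⟩ := h.piece (g.left y)
  obtain ⟨_, ⟨V, hV, rfl⟩, hyV, hle⟩ := Y'.left.isBasis_affineOpens.exists_subset_of_mem_open
    (show y ∈ N ⊓ g.left ⁻¹ᵁ O from ⟨hy, hyO⟩) (N ⊓ g.left ⁻¹ᵁ O).2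
  have hVO : V ≤ g.left ⁻¹ᵁ O := fun z hz => (hle hz).2
  haveI := hT
  haveI : IsAffine (baseV O).left := hO
  haveI : IsAffine (baseV V).left := hV
  let g₀ : baseV V ⟶ baseV O := Over.homMk (g.left.resLE O V hVO) (by
    change g.left.resLE O V hVO ≫ O.ι ≫ Y.hom = Scheme.Opens.ι V ≫ Y'.hom
    rw [Scheme.Hom.resLE_comp_ι_assoc, Over.w g])
  have hg₀ : g₀ ≫ gV O = gV V ≫ g := Over.OverMorphism.ext (Scheme.Hom.resLE_comp_ι _ _)
  have hbig := (isPullback_piece φ' V).paste_horiz hpb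
  have hw : (prV φ' V ≫ pr) ≫ φ = (phiV φ' V ≫ g₀) ≫ gV O := by
    rw [Category.assoc, Category.assoc, hg₀, hpb.w, ← Category.assoc, (isPullback_piece φ' V).w, Category.assoc]
  let pr₀ : totV φ' V ⟶ totV φ O := (isPullback_piece φ O).lift (prV φ' V ≫ pr) (phiV φ' V ≫ g₀) hw
  have hp₁ : pr₀ ≫ prV φ O = prV φ' V ≫ pr := IsPullback.lift_fst _ _ _ _
  have hp₂ : pr₀ ≫ phiV φ O = phiV φ' V ≫ g₀ := IsPullback.lift_snd _ _ _ _
  have hsq : IsPullback pr₀ (phiV φ' V) (phiV φ O) g₀ :=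
    IsPullback.of_right (by rw [hp₁, hg₀]; exact hbig) hp₂ (isPullback_piece φ O)
  haveI : IsAffine (totV φ' V).left := by
    have hsqL : IsPullback pr₀.left (phiV φ' V).left (phiV φ O).left g₀.left := hsq.map (Over.forget _)
    exact IsAffine.of_isPullback hsqL
  refine ⟨V, hV, hyV, fun z hz => (hle hz).1, inferInstance,
    hQ.baseChange ψ hLR pr₀ (phiV φ' V) g₀ hsq _ ?_ (bcAction_invariant hinv _)⟩
  apply (isPullback_piece φ O).hom_ext
  · rw [Category.assoc, hp₁, ← Category.assoc, bcAction_act_fst, Category.assoc, heq, Category.assoc,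
      bcAction_act_fst, ← whiskerLeft_comp_assoc, ← whiskerLeft_comp_assoc, hp₁]
  · rw [Category.assoc, hp₂, ← Category.assoc, bcAction_invariant hinv (isPullback_piece φ' V), Category.assoc,
      Category.assoc, bcAction_invariant h.inv (isPullback_piece φ O), whiskerLeft_snd_assoc, hp₂]

include ψ hLR in
theorem LocAffQ.pieceBasis (h : LocAffQ a φ) : PieceBasis φ h.inv :=
  h.pieceBasis_bc ψ hLR (IsPullback.of_id_fst (f := φ))
    (by rw [Category.comp_id, MonoidalCategory.whiskerLeft_id, Category.id_comp]) h.inv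

include ψ hLR in
theorem LocAffQ.baseChange (h : LocAffQ a φ) {X' Y' : Over (Spec (CommRingCat.of k))}
    {pr : X' ⟶ X} {φ' : X' ⟶ Y'} {g : Y' ⟶ Y} (hpb : IsPullback pr φ' φ g)
    {a' : AlgGrp.Action G X'} (heq : a'.act ≫ pr = (G ◁ pr) ≫ a.act) (hinv : GIT.IsInvariant a' φ') :
    LocAffQ a' φ' := by
  refine ⟨hinv, fun y => ?_⟩
  obtain ⟨V, hV, hy, -, hT, hQ⟩ := h.pieceBasis_bc ψ hLR hpb heq hinv ⊤ y trivial
  exact ⟨V, hV, hy, hT, hQ⟩

include ψ hLR in
theorem LocAffQ.sections (h : LocAffQ a φ) (U : Y.left.Opens) :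
    Function.Injective (φ.left.app U) ∧ Set.range (φ.left.app U) = {f | GIT.IsInvSection a φ U f} :=
  sections_of_basis (h.pieceBasis ψ hLR) U

include ψ hLR in
theorem LocAffQ.catQuot (h : LocAffQ a φ) : GIT.IsCatQuot a φ ∧ IsQuotientMap φ.left.base :=
  catQuot_of_basis ψ hLR (h.pieceBasis ψ hLR)

include ψ hLR in
theorem LocAffQ.isUnivCatQuot (h : LocAffQ a φ) : GIT.IsUnivCatQuot a φ :=
  ⟨(h.catQuot ψ hLR).1, fun _ _ _ _ _ _ hpb _ heq hinv => ((h.baseChange ψ hLR hpb heq hinv).catQuot ψ hLR).1⟩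

include ψ hLR in
theorem LocAffQ.isUnifCatQuot (h : LocAffQ a φ) : GIT.IsUnifCatQuot a φ :=
  ⟨(h.catQuot ψ hLR).1, fun _ _ _ _ _ _ hpb _ heq hinv => ((h.baseChange ψ hLR hpb heq hinv).catQuot ψ hLR).1⟩

include ψ hLR in
theorem LocAffQ.isUnivSubmersive (h : LocAffQ a φ) : GIT.IsUnivSubmersive φ.left := by
  intro X'' Y'' i₁ i₂ f' hsq
  let Y₁ : Over (Spec (CommRingCat.of k)) := Over.mk (i₂ ≫ Y.hom)
  let X₁ : Over (Spec (CommRingCat.of k)) := Over.mk (i₁ ≫ X.hom)
  let g₁ : Y₁ ⟶ Y := Over.homMk i₂ rfl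
  let p₁ : X₁ ⟶ X := Over.homMk i₁ rfl
  let φ₁ : X₁ ⟶ Y₁ := Over.homMk f' (by
    show f' ≫ i₂ ≫ Y.hom = i₁ ≫ X.hom
    rw [← Category.assoc, hsq.w, Category.assoc, Over.w φ])
  have hpb₁ : IsPullback p₁ φ₁ φ g₁ :=
    IsPullback.of_map (Over.forget _) (Over.OverMorphism.ext hsq.w.symm) hsq.flip
  exact ((h.baseChange ψ hLR hpb₁ (bcAction_act_fst h.inv hpb₁) (bcAction_invariant h.inv hpb₁)).catQuot ψ hLR).2

include ψ hLR in
/-- with closed orbits the fibres are orbits -/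
theorem LocAffQ.surjective_PsiY (h : LocAffQ a φ) (hc : GIT.IsClosedAction a) :
    Function.Surjective (GIT.PsiY a φ h.inv).base := by
  intro z
  obtain ⟨O, hO, hzO, hT, hQ⟩ := h.piece (φ.left (pullback.fst φ.left φ.left z))
  haveI := hT
  haveI : IsAffine (baseV O).left := hO
  have hc₀ : GIT.IsClosedAction (actV φ h.inv O) := by
    haveI : IsOpenImmersion (prV φ O).left := inferInstanceAs (IsOpenImmersion (φ.left ⁻¹ᵁ O).ι)
    exact isClosedAction_of_openImmersion (prV φ O) (bcAction_act_fst _ _) hc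
  have hw : (phiV φ O).left ≫ O.ι = (φ.left ⁻¹ᵁ O).ι ≫ φ.left := morphismRestrict_ι _ _
  let e : pullback (phiV φ O).left (phiV φ O).left ⟶ pullback φ.left φ.left :=
    pullback.map _ _ _ _ (φ.left ⁻¹ᵁ O).ι (φ.left ⁻¹ᵁ O).ι O.ι hw hw
  obtain ⟨w, hw'⟩ : z ∈ Set.range e.base := by
    rw [Scheme.Pullback.range_map, Scheme.Opens.range_ι]
    refine ⟨hzO, ?_⟩
    show φ.left (pullback.snd φ.left φ.left z) ∈ O
    rw [← Scheme.Hom.comp_apply, ← pullback.condition, Scheme.Hom.comp_apply]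
    exact hzO
  obtain ⟨r, hr⟩ := hQ.surjective_PsiY ψ hLR hc₀ w
  refine ⟨(G ◁ prV φ O).left r, ?_⟩
  rw [← hw', ← hr, ← Scheme.Hom.comp_apply, ← Scheme.Hom.comp_apply]
  refine congrArg (fun m : _ ⟶ pullback φ.left φ.left => m.base r) ?_
  apply pullback.hom_ext
  · rw [Category.assoc, Category.assoc, GIT.PsiY, pullback.lift_fst, pullback.lift_fst, GIT.PsiY,
      pullback.lift_fst_assoc]
    exact congrArg (·.left) (bcAction_act_fst h.inv (isPullback_piece φ O)).symm
  · rw [Category.assoc, Category.assoc, GIT.PsiY, pullback.lift_snd, pullback.lift_snd, GIT.PsiY,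
      pullback.lift_snd_assoc]
    exact congrArg (·.left) (whiskerLeft_snd G (prV φ O))

include ψ hLR in
theorem LocAffQ.isUnivGeomQuot (h : LocAffQ a φ) (hc : GIT.IsClosedAction a) : GIT.IsUnivGeomQuot a φ :=
  (Quot.isGeomQuot_univ_iff (h.isUnivCatQuot ψ hLR)).2 ⟨h.isUnivSubmersive ψ hLR, h.surjective_PsiY ψ hLR hc⟩

include ψ hLR in
theorem LocAffQ.isUnifGeomQuot (h : LocAffQ a φ) (hc : GIT.IsClosedAction a) : GIT.IsUnifGeomQuot a φ :=
  have hu := h.isUnivGeomQuot ψ hLR hc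
  ⟨hu.1, fun _ _ pr φ' g _ hpb a' heq hinv => hu.2 pr φ' g trivial hpb a' heq hinv⟩

end Groth.Agent.GIT36.Glue
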