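import Groth.Agent.GIT36.Glue.Ample
import Groth.Agent.GIT36.Sections.Good

/-!
The quotient of the semistable locus and the geometric quotient of the stable locus.
-/

set_option autoImplicit false
set_option linter.unusedSectionVars false
set_option linter.style.haveILetI false
set_option backward.isDefEq.respectTransparency.types false

universe u

open CategoryTheory CategoryTheory.Limits MonoidalCategory CartesianMonoidalCategory AlgebraicGeometry
  TopologicalSpace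
open Groth.Agent.H98EqInt Groth.Agent.GIT36.Proj Groth.Agent.GIT36.FinAction

noncomputable section

namespace Groth.Agent.GIT36.Glue

open AffQuot

variable {k : Type u} [Field k] {G X : Over (Spec (CommRingCat.of k))} [GrpObj G] {a : AlgGrp.Action G X}

/-- closed orbits inside an invariant open give a closed restricted action -/
theorem isClosedAction_resAct {U : X.left.Opens} (hU : a.act.left ⁻¹ᵁ U = (snd G X).left ⁻¹ᵁ U)
    (hcl : GLinSh.ClosedOrbitsOn a U) : GIT.IsClosedAction (resAct a U hU) := by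
  intro Ω _ _ T eT f
  have h := hcl Ω T eT (f ≫ openIncl U) (by
    rintro _ ⟨t, rfl⟩
    exact (f.left t).2)
  let j : openObj U ⊗ T ⟶ X ⊗ T := openIncl U ▷ T
  haveI : IsOpenImmersion j.left :=
    MorphismProperty.of_isPullback (P := @IsOpenImmersion) (Quot.isPullback_whiskerRight_left T (openIncl U)).flip
      inferInstance
  have e₁ : GIT.psi (resAct a U hU) f ≫ j = GIT.psi a (f ≫ openIncl U) := by
    apply CartesianMonoidalCategory.hom_ext
    · simp only [GIT.psi, j, Category.assoc, whiskerRight_fst, lift_fst_assoc, lift_fst]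
      rw [resAct_comp, MonoidalCategory.whiskerLeft_comp_assoc]
    · simp only [GIT.psi, j, Category.assoc, whiskerRight_snd, lift_snd]
  have hmem : ∀ p, j.left p ∈ (fst X T).left ⁻¹ᵁ U := fun p => by
    show (j ≫ fst X T).left p ∈ U
    rw [whiskerRight_fst]
    exact ((fst (openObj U) T).left p).2
  convert h.preimage (f := fun p => (⟨j.left p, hmem p⟩ : (fst X T).left ⁻¹ᵁ U))
    (j.left.continuous.subtype_mk _) using 1
  ext p
  show p ∈ Set.range _ ↔ j.left p ∈ Set.range _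
  rw [← e₁, Over.comp_left, Scheme.Hom.comp_base, TopCat.coe_comp, Set.range_comp]
  exact (Function.Injective.mem_set_image j.left.isOpenEmbedding.injective).symm

variable [CharZero k] [LocallyOfFiniteType X.hom] [QuasiCompact X.hom] (hG : Red.IsReductive G)
  (B : GLinSh.LinBun G a)

theorem exists_openObj_act {U : X.left.Opens} (aU : AlgGrp.Action G (openObj U)) (jU : openObj U ⟶ X)
    (hjU : jU.left = U.ι) (haU : aU.act ≫ jU = (G ◁ jU) ≫ a.act)
    (hU : a.act.left ⁻¹ᵁ U = (snd G X).left ⁻¹ᵁ U) : aU = resAct a U hU := by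
  obtain rfl : jU = openIncl U := Over.OverMorphism.ext (hjU.trans rfl)
  have h := openIncl_cancel (haU.trans (resAct_comp a U hU).symm)
  rcases aU with ⟨act, h₁, h₂⟩
  cases h
  rfl

include hG in
/-- the quotient of the semistable locus -/
theorem exists_quotient_ssLocus (U : X.left.Opens) (hU : (U : Set X.left) = B.ssLocus)
    (aU : AlgGrp.Action G (openObj U)) (jU : openObj U ⟶ X) (hjU : jU.left = U.ι)
    (haU : aU.act ≫ jU = (G ◁ jU) ≫ a.act) :
    ∃ (Y : Over (Spec (CommRingCat.of k))) (φ : openObj U ⟶ Y),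
      GIT.IsUnifCatQuot aU φ ∧ IsAffineHom φ.left ∧ GIT.IsUnivSubmersive φ.left ∧
      IsSeparated Y.hom ∧ LocallyOfFiniteType Y.hom ∧
      ∃ M : Y.left.Modules, CohB1.IsAmple M := by
  obtain ⟨A, _, _, ψ, hψ, -, hLR⟩ := AffQuot.exists_coord_linRed G hG
  haveI := hψ
  let Φ := goodFamily B
  obtain rfl : U = Φ.U := Opens.ext (hU.trans (goodFamily_U B).symm)
  obtain rfl := exists_openObj_act aU jU hjU haU Φ.inv_U
  have hL := Φ.locAffQ ψ hLR
  exact ⟨Φ.Y ψ hLR, Φ.φ ψ hLR, hL.isUnifCatQuot ψ hLR, hL.isAffineHom, hL.isUnivSubmersive ψ hLR,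
    Φ.isSeparated ψ hLR, Φ.locallyOfFiniteType ψ hLR, exists_isAmple B ψ hLR⟩

include hG in
/-- the geometric quotient of the stable locus inside any categorical quotient of the semistable locus -/
theorem exists_geomQuot_sLocus (U : X.left.Opens) (hU : (U : Set X.left) = B.ssLocus)
    (aU : AlgGrp.Action G (openObj U)) (jU : openObj U ⟶ X) (hjU : jU.left = U.ι)
    (haU : aU.act ≫ jU = (G ◁ jU) ≫ a.act)
    (Y : Over (Spec (CommRingCat.of k))) (φ : openObj U ⟶ Y) (hφ : GIT.IsCatQuot aU φ)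
    (Us : X.left.Opens) (hUs : (Us : Set X.left) = B.sLocus) (hle : Us ≤ U)
    (aS : AlgGrp.Action G (openObj Us)) (jS : openObj Us ⟶ X) (hjS : jS.left = Us.ι)
    (haS : aS.act ≫ jS = (G ◁ jS) ≫ a.act) :
    ∃ (Yt : Y.left.Opens) (φs : openObj Us ⟶ Over.mk (Yt.ι ≫ Y.hom)),
      φs.left ≫ Yt.ι = X.left.homOfLE hle ≫ φ.left ∧
      φ.left ⁻¹ᵁ Yt = U.ι ⁻¹ᵁ Us ∧
      GIT.IsUnifGeomQuot aS φs := by
  obtain ⟨A, _, _, ψ, hψ, -, hLR⟩ := AffQuot.exists_coord_linRed G hG
  haveI := hψ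
  let Φ := goodFamily B
  obtain rfl : U = Φ.U := Opens.ext (hU.trans (goodFamily_U B).symm)
  obtain rfl := exists_openObj_act aU jU hjU haU Φ.inv_U
  let J := {W : Φ.P // GLinSh.ClosedOrbitsOn a W.1}
  have hUs' : Us = ⨆ W : J, W.1.1 := by
    refine Opens.ext (hUs.trans ?_)
    ext x
    rw [SetLike.mem_coe, Opens.mem_iSup]
    constructor
    · rintro ⟨n, F, hn, hF, hx, W, h, ha, hc⟩
      exact ⟨⟨⟨W, n, F, hn, hF, h, ha⟩, hc⟩, h.ge hx⟩
    · rintro ⟨⟨⟨W, n, F, hn, hF, h, ha⟩, hc⟩, hx⟩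
      exact ⟨n, F, hn, hF, h.le hx, W, h, ha, hc⟩
  have hSinv : a.act.left ⁻¹ᵁ Us = (snd G X).left ⁻¹ᵁ Us := by
    rw [hUs', Scheme.Hom.preimage_iSup, Scheme.Hom.preimage_iSup]
    exact iSup_congr fun W => Φ.inv W.1.1 W.1.2
  obtain rfl := exists_openObj_act aS jS hjS haS hSinv
  have hScl : GIT.IsClosedAction (resAct a Us hSinv) := by
    refine isClosedAction_resAct hSinv (Sections.closedOrbitsOn_of_cover (fun W : J => W.1.1)
      (fun x hx => ?_) (fun W => Φ.inv W.1.1 W.1.2) fun W => W.2)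
    rw [hUs'] at hx
    exact Opens.mem_iSup.1 hx
  have hL := Φ.locAffQ ψ hLR
  let φ₀ := Φ.φ ψ hLR
  obtain ⟨χ, hχ, -⟩ := hφ.2 _ φ₀ hL.inv
  obtain ⟨χ', hχ', -⟩ := (hL.catQuot ψ hLR).1.2 _ φ hφ.1
  have hχχ' : χ ≫ χ' = 𝟙 Y :=
    (hφ.2 _ φ hφ.1).unique (by rw [reassoc_of% hχ, hχ']) (Category.comp_id _)
  have hχ'χ : χ' ≫ χ = 𝟙 _ :=
    ((hL.catQuot ψ hLR).1.2 _ φ₀ hL.inv).unique (by rw [reassoc_of% hχ', hχ]) (Category.comp_id _)
  haveI : IsIso χ := ⟨χ', hχχ', hχ'χ⟩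
  haveI : IsIso χ.left := ((Over.forget _).mapIso (asIso χ)).isIso_hom
  let Yt₀ : (Φ.Y ψ hLR).left.Opens := ⨆ W : J, (Φ.ιY ψ hLR W.1).left.opensRange
  let Yt : Y.left.Opens := χ.left ⁻¹ᵁ Yt₀
  have hχL : φ.left ≫ χ.left = φ₀.left := congrArg (fun m => m.left) hχ
  have hpre₀ : φ₀.left ⁻¹ᵁ Yt₀ = Φ.U.ι ⁻¹ᵁ Us := by
    rw [hUs', Scheme.Hom.preimage_iSup, Scheme.Hom.preimage_iSup]
    exact iSup_congr fun W => Φ.preimage_range_ιY ψ hLR W.1
  have hpre : φ.left ⁻¹ᵁ Yt = Φ.U.ι ⁻¹ᵁ Us := by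
    rw [← hpre₀, ← hχL, Scheme.Hom.comp_preimage]
  let Ys : Over (Spec (CommRingCat.of k)) := Over.mk (Yt.ι ≫ Y.hom)
  let gS : Ys ⟶ Φ.Y ψ hLR := Over.homMk Yt.ι rfl ≫ χ
  haveI : IsOpenImmersion gS.left := inferInstanceAs (IsOpenImmersion (Yt.ι ≫ χ.left))
  haveI : IsOpenImmersion (inclLE hle).left := inferInstanceAs (IsOpenImmersion (X.left.homOfLE hle))
  have hr : Set.range ((inclLE hle).left ≫ φ.left) ⊆ Set.range Yt.ι := by
    rintro _ ⟨p, rfl⟩
    rw [Scheme.Opens.range_ι]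
    show (inclLE hle).left p ∈ φ.left ⁻¹ᵁ Yt
    rw [hpre]
    show Φ.U.ι ((inclLE hle).left p) ∈ Us
    rw [← Scheme.Hom.comp_apply]
    exact (congr($(X.left.homOfLE_ι hle) p)).symm ▸ p.2
  let φs : openObj Us ⟶ Ys := Over.homMk (IsOpenImmersion.lift Yt.ι ((inclLE hle).left ≫ φ.left) hr) (by
    show _ ≫ Yt.ι ≫ Y.hom = _
    rw [IsOpenImmersion.lift_fac_assoc, Category.assoc, Over.w φ, Over.w (inclLE hle)])
  have hφs : φs.left ≫ Yt.ι = (inclLE hle).left ≫ φ.left := IsOpenImmersion.lift_fac _ _ _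
  have hw : φs ≫ gS = inclLE hle ≫ φ₀ := by
    apply Over.OverMorphism.ext
    show φs.left ≫ Yt.ι ≫ χ.left = (inclLE hle).left ≫ φ₀.left
    rw [reassoc_of% hφs, hχL]
  have hpb : IsPullback (inclLE hle) φs φ₀ gS := by
    refine IsPullback.of_map (Over.forget _) hw.symm ?_
    refine (IsOpenImmersion.isPullback φs.left (inclLE hle).left gS.left φ₀.left
      (congrArg (fun m => m.left) hw).symm ?_).flip
    have hrange : gS.left.opensRange = Yt₀ := by
      ext1
      show Set.range (Yt.ι ≫ χ.left) = (Yt₀ : Set _)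
      rw [Scheme.Hom.comp_base, TopCat.coe_comp, Set.range_comp, Scheme.Opens.range_ι]
      exact Set.image_preimage_eq (Yt₀ : Set _) χ.left.homeomorph.surjective
    rw [hrange, hpre₀]
    exact Opens.ext (range_inclLE hle).symm
  have hinv : GIT.IsInvariant (resAct a Us hSinv) φs := by
    haveI : Mono gS := Over.mono_of_mono_left _
    rw [GIT.IsInvariant, ← cancel_mono gS, Category.assoc, Category.assoc, hw,
      reassoc_of% resAct_inclLE a hSinv Φ.inv_U hle, hL.inv, whiskerLeft_snd_assoc]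
  refine ⟨Yt, φs, hφs, hpre, ?_⟩
  exact (hL.baseChange ψ hLR hpb (resAct_inclLE a hSinv Φ.inv_U hle) hinv).isUnifGeomQuot ψ hLR hScl

end Groth.Agent.GIT36.Glue
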