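import Groth.Agent.GIT36.Glue.Separated
import Groth.Agent.GIT36.Sections.Bun
import Mathlib.AlgebraicGeometry.Morphisms.QuasiCompact

/-!
The affine loci of invariant sections form a gluing family; functions on the quotient.
-/

set_option autoImplicit false
set_option linter.unusedSectionVars false
set_option linter.style.haveILetI false
set_option backward.isDefEq.respectTransparency.types false

universe u

open CategoryTheory CategoryTheory.Limits MonoidalCategory CartesianMonoidalCategory AlgebraicGeometry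
  TopologicalSpace
open Groth.Agent.H98EqInt Groth.Agent.GIT36.Proj Groth.Agent.GIT36.FinAction

noncomputable section

namespace Groth.Agent.GIT36.Glue

open AffQuot

section Bundle

variable {k : Type u} [Field k] {G X : Over (Spec (CommRingCat.of k))} [GrpObj G] {a : AlgGrp.Action G X}
  (B : GLinSh.LinBun G a)

/-- affine non-vanishing loci of invariant sections of positive weight -/
def goodSet : Set X.left.Opens :=
  {W | ∃ (n : ℕ) (F : Γ(B.V.left, ⊤)), 1 ≤ n ∧ B.IsInvSection n F ∧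
    (W : Set X.left) = GLinSh.nonvanishing B.π F ∧ IsAffineOpen W}

theorem preimage_good {W : X.left.Opens} (hW : W ∈ goodSet B) : a.act.left ⁻¹ᵁ W = (snd G X).left ⁻¹ᵁ W :=
  let ⟨_, _, _, hF, h, _⟩ := hW
  Sections.preimage_invariant hF h

variable {B}

/-- the transition functions of two loci -/
theorem exists_transition {n : ℕ} {F F' : Γ(B.V.left, ⊤)} (hF : B.IsInvSection n F) (hF' : B.IsInvSection n F')
    {W W' : X.left.Opens} (hW : (W : Set X.left) = GLinSh.nonvanishing B.π F)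
    (hW' : (W' : Set X.left) = GLinSh.nonvanishing B.π F') :
    ∃ r : Γ(X.left, W), Sections.IsRatio B.π.left F F' r ∧ InvOn a (Sections.preimage_invariant hF hW) r ∧
      X.left.basicOpen r = W ⊓ W' := by
  haveI := B.atlas.affine
  let A := Sections.atlasB B
  obtain ⟨r, hr⟩ := Sections.exists_ratio (A := A) (hf := hF.1) (hg := hF'.1) (D := W) hW.le
  refine ⟨r, hr, Sections.ratio_invariant hF hF'.2 hW.le (Sections.preimage_invariant hF hW) hr, ?_⟩
  ext1
  rw [Sections.IsRatio.basicOpen (A := A) (hf := hF.1) (hg := hF'.1) hW.le hr, Opens.coe_inf, hW']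
  rfl

theorem pow_spec {n : ℕ} {F : Γ(B.V.left, ⊤)} (hF : B.IsInvSection n F) {m : ℕ} (hm : 1 ≤ m) :
    B.IsInvSection (m * n) (F ^ m) ∧ GLinSh.nonvanishing B.π (F ^ m) = GLinSh.nonvanishing B.π F := by
  haveI := B.atlas.affine
  exact ⟨Sections.inv_pow' hF m, Sections.nv_pow F hm⟩

theorem exists_common {W W' : X.left.Opens} (hW : W ∈ goodSet B) (hW' : W' ∈ goodSet B) :
    ∃ (N : ℕ) (F F' : Γ(B.V.left, ⊤)), 1 ≤ N ∧ B.IsInvSection N F ∧ B.IsInvSection N F' ∧
      (W : Set X.left) = GLinSh.nonvanishing B.π F ∧ (W' : Set X.left) = GLinSh.nonvanishing B.π F' := by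
  obtain ⟨n, F, hn, hF, h, -⟩ := hW
  obtain ⟨m, F', hm, hF', h', -⟩ := hW'
  obtain ⟨hP, eP⟩ := pow_spec hF hm
  obtain ⟨hQ, eQ⟩ := pow_spec hF' hn
  exact ⟨n * m, F ^ m, F' ^ n, Nat.mul_pos hn hm, Nat.mul_comm m n ▸ hP, hQ, h.trans eP.symm, h'.trans eQ.symm⟩

theorem inf_mem_good {W W' : X.left.Opens} (hW : W ∈ goodSet B) (hW' : W' ∈ goodSet B) :
    W ⊓ W' ∈ goodSet B := by
  haveI := B.atlas.affine
  obtain ⟨N, F, F', hN, hF, hF', h, h'⟩ := exists_common hW hW'
  obtain ⟨r, -, -, hr⟩ := exists_transition hF hF' h h'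
  obtain ⟨_, _, _, _, _, hWa⟩ := hW
  refine ⟨N + N, F * F', by omega, Sections.inv_mul' hF hF', ?_, hr ▸ hWa.basicOpen r⟩
  rw [Opens.coe_inf, h, h']
  exact (Sections.nv_mul (A := Sections.atlasB B) hF.1 hF'.1).symm

variable (B)

/-- the gluing family of a linearised line bundle -/
def goodFamily : Family a where
  P := goodSet B
  affine _ h := h.choose_spec.choose_spec.2.2.2
  inv _ h := preimage_good B h
  inf_mem _ h _ h' := inf_mem_good h h'
  pair W hW W' hW' := by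
    haveI := B.atlas.affine
    obtain ⟨N, F, F', hN, hF, hF', h, h'⟩ := exists_common hW hW'
    obtain ⟨s, hs, hsi, hsb⟩ := exists_transition hF hF' h h'
    obtain ⟨t, ht, hti, htb⟩ := exists_transition hF' hF h' h
    refine ⟨s, t, hsi, hti, hsb, htb.trans (inf_comm _ _), ?_⟩
    have hV : ((W ⊓ W' : X.left.Opens) : Set X.left) ⊆ Sections.nv B.π.left F := fun x hx => h.le hx.1
    refine Sections.ratio_unique (A := Sections.atlasB B) (hf := hF.1) hV ?_
    have h1 := hs.res (inf_le_left : W ⊓ W' ≤ W)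
    have h2 := ht.res (inf_le_right : W ⊓ W' ≤ W')
    rw [Sections.IsRatio] at h1 h2
    rw [map_one, one_mul, map_mul (B.π.left.app (W ⊓ W')).hom, mul_comm (B.π.left.app (W ⊓ W') _),
      mul_assoc, h1, h2]

theorem goodFamily_U : ((goodFamily B).U : Set X.left) = B.ssLocus := by
  ext x
  rw [SetLike.mem_coe, Family.U, Opens.mem_iSup]
  constructor
  · rintro ⟨⟨W, n, F, hn, hF, h, ha⟩, hx⟩
    exact ⟨n, F, hn, hF, h.le hx, W, h, ha⟩
  · rintro ⟨n, F, hn, hF, hx, W, h, ha⟩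
    exact ⟨⟨W, n, F, hn, hF, h, ha⟩, h.ge hx⟩

variable {B}

/-- finitely many good loci with sections of one weight -/
theorem exists_finite_good {C : Set X.left} (hC : IsCompact C) (hsub : C ⊆ B.ssLocus) :
    ∃ (N : ℕ) (s : Finset (goodFamily B).P) (F : (goodFamily B).P → Γ(B.V.left, ⊤)), 1 ≤ N ∧
      (∀ W ∈ s, B.IsInvSection N (F W) ∧ (W.1 : Set X.left) = GLinSh.nonvanishing B.π (F W)) ∧
      ∀ x ∈ C, ∃ W ∈ s, x ∈ W.1 := by
  classical
  obtain ⟨s, hs⟩ := hC.elim_finite_subcover (fun W : (goodFamily B).P => (W.1 : Set X.left))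
    (fun W => W.1.isOpen) (fun x hx => by
      have h : x ∈ ((goodFamily B).U : Set X.left) := by rw [goodFamily_U]; exact hsub hx
      rw [SetLike.mem_coe, Family.U, Opens.mem_iSup] at h
      exact Set.mem_iUnion.2 h)
  choose n F hn hF hW _ using fun W : (goodFamily B).P => W.2
  let N := ∏ W ∈ s, n W
  let m : (goodFamily B).P → ℕ := fun W => N / n W
  have hN : 1 ≤ N := Finset.one_le_prod' fun W _ => hn W
  have hm : ∀ W ∈ s, m W * n W = N := fun W hW => Nat.div_mul_cancel (Finset.dvd_prod_of_mem n hW)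
  refine ⟨N, s, fun W => F W ^ m W, hN, fun W hWs => ?_, fun x hx => ?_⟩
  · have hm1 : 1 ≤ m W := by
      rcases Nat.eq_zero_or_pos (m W) with h | h
      · have h' := hm W hWs
        rw [h, Nat.zero_mul] at h'
        omega
      · exact h
    obtain ⟨h1, h2⟩ := pow_spec (hF W) hm1
    exact ⟨hm W hWs ▸ h1, (hW W).trans h2.symm⟩
  · obtain ⟨W, hW, hxW⟩ := Set.mem_iUnion₂.1 (hs hx)
    exact ⟨W, hW, hxW⟩

end Bundle

section Functions

variable {k : Type u} [Field k] {G X : Over (Spec (CommRingCat.of k))} [GrpObj G] {a : AlgGrp.Action G X}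

theorem isInvSection_of_invOn {U : X.left.Opens} {hU : a.act.left ⁻¹ᵁ U = (snd G X).left ⁻¹ᵁ U}
    {Y : Over (Spec (CommRingCat.of k))} {φ : openObj U ⟶ Y} {O : Y.left.Opens} {D : X.left.Opens}
    (hle : φ.left ⁻¹ᵁ O ≤ U.ι ⁻¹ᵁ D) {hD : a.act.left ⁻¹ᵁ D = (snd G X).left ⁻¹ᵁ D} {r : Γ(X.left, D)}
    (hr : InvOn a hD r) : GIT.IsInvSection (resAct a U hU) φ O (U.ι.appLE D (φ.left ⁻¹ᵁ O) hle r) := by
  let T := (resAct a U hU).act.left ⁻¹ᵁ (φ.left ⁻¹ᵁ O) ⊓ (snd G (openObj U)).left ⁻¹ᵁ (φ.left ⁻¹ᵁ O)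
  let i := (G ◁ openIncl U).left
  have hi : T ≤ i ⁻¹ᵁ ((snd G X).left ⁻¹ᵁ D) := fun p hp => by
    show ((G ◁ openIncl U).left ≫ (snd G X).left) p ∈ D
    rw [← Over.comp_left, whiskerLeft_snd]
    exact hle hp.2
  have key : ∀ (σ' : G ⊗ openObj U ⟶ openObj U) (σ : G ⊗ X ⟶ X) (hσ' : T ≤ σ'.left ⁻¹ᵁ (φ.left ⁻¹ᵁ O))
      (hσ : (snd G X).left ⁻¹ᵁ D ≤ σ.left ⁻¹ᵁ D), σ' ≫ openIncl U = (G ◁ openIncl U) ≫ σ →
      σ'.left.appLE (φ.left ⁻¹ᵁ O) T hσ' (U.ι.appLE D (φ.left ⁻¹ᵁ O) hle r) =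
        i.appLE _ T hi (σ.left.appLE D _ hσ r) := by
    intro σ' σ hσ' hσ h
    rw [← CommRingCat.comp_apply, ← CommRingCat.comp_apply, Scheme.Hom.appLE_comp_appLE,
      Scheme.Hom.appLE_comp_appLE]
    exact congr($(LineBundle.appLE_congr_hom (congrArg (fun m => m.left) h : σ'.left ≫ U.ι = i ≫ σ.left) _ _).hom r)
  unfold GIT.IsInvSection
  refine (key (resAct a U hU).act a.act inf_le_left hD.ge (resAct_comp a U hU)).trans ?_
  rw [hr]
  exact (key (snd G (openObj U)) (snd G X) inf_le_right le_rfl (whiskerLeft_snd G (openIncl U)).symm).symm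

/-- pullback to the union, naturally in the open of the quotient -/
theorem app_fres {U : X.left.Opens} {Y : Over (Spec (CommRingCat.of k))} (φ : openObj U ⟶ Y)
    {O O' : Y.left.Opens} (hO : O' ≤ O) {D D' : X.left.Opens} (hD : D' ≤ D) (hle : φ.left ⁻¹ᵁ O ≤ U.ι ⁻¹ᵁ D)
    (hle' : φ.left ⁻¹ᵁ O' ≤ U.ι ⁻¹ᵁ D') {c : Γ(Y.left, O)} {r : Γ(X.left, D)}
    (h : φ.left.app O c = U.ι.appLE D (φ.left ⁻¹ᵁ O) hle r) :
    φ.left.app O' (Y.left.presheaf.map (homOfLE hO).op c) =
      U.ι.appLE D' (φ.left ⁻¹ᵁ O') hle' (X.left.presheaf.map (homOfLE hD).op r) := by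
  rw [← CommRingCat.comp_apply, Scheme.Hom.naturality, CommRingCat.comp_apply, h, ← CommRingCat.comp_apply,
    ← CommRingCat.comp_apply, Scheme.Hom.map_appLE]
  exact congr($(Scheme.Hom.appLE_map U.ι hle _) r)

end Functions

end Groth.Agent.GIT36.Glue
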