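import Groth.Agent.GIT36.Glue.Colim
import Mathlib.AlgebraicGeometry.Morphisms.Separated

/-!
The glued quotient is separated.
-/

set_option autoImplicit false
set_option linter.unusedSectionVars false
set_option linter.style.haveILetI false
set_option backward.isDefEq.respectTransparency.types false

universe u

open CategoryTheory CategoryTheory.Limits MonoidalCategory CartesianMonoidalCategory AlgebraicGeometry
  TopologicalSpace
open Groth.Agent.H98EqInt Groth.Agent.GIT36.Proj Groth.Agent.GIT36.FinAction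

noncomputable section

namespace Groth.Agent.GIT36.Glue

open AffQuot

variable {k : Type u} [Field k] {G X : Over (Spec (CommRingCat.of k))} [GrpObj G] {a : AlgGrp.Action G X}
  {A : Type u} [CommRing A] [HopfAlgebra k A] (ψ : GMod80.sp k A ≅ G) [IsMonHom ψ.hom]
  (hLR : HopfRep.IsLinearlyReductive k A) (Φ : Family a)

theorem diag_left (Y : Over (Spec (CommRingCat.of k))) :
    (lift (𝟙 Y) (𝟙 Y)).left = pullback.diagonal Y.hom := by
  apply pullback.hom_ext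
  · rw [pullback.diagonal_fst]
    exact congrArg (fun m => m.left) (lift_fst (𝟙 Y) (𝟙 Y))
  · rw [pullback.diagonal_snd]
    exact congrArg (fun m => m.left) (lift_snd (𝟙 Y) (𝟙 Y))

/-- values of a function on the quotient, pulled back to a smaller member -/
theorem Family.appTop_map {W W' : Φ.P} (h : W.1 ≤ W'.1) {r : Γ(X.left, W'.1)}
    {r₀ : Γ((Φ.Yp ψ hLR W').left, ⊤)} (hr₀ : (Φ.φp ψ hLR W').left.appTop r₀ = W'.1.topIso.inv r) :
    (Φ.φp ψ hLR W).left.appTop ((Φ.map ψ hLR h).left.appTop r₀) =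
      W.1.topIso.inv (X.left.presheaf.map (homOfLE h).op r) := by
  rw [← CommRingCat.comp_apply, ← Scheme.Hom.comp_appTop, ← Over.comp_left, Φ.φp_map ψ hLR, Over.comp_left,
    Scheme.Hom.comp_appTop, CommRingCat.comp_apply, hr₀, appTop_inclLE]

theorem Family.basicOpen_fn {W W' : Φ.P} (h : W.1 ≤ W'.1) {r : Γ(X.left, W'.1)}
    {r₀ : Γ((Φ.Yp ψ hLR W').left, ⊤)} (hr₀ : (Φ.φp ψ hLR W').left.appTop r₀ = W'.1.topIso.inv r)
    (hr : X.left.basicOpen r = W.1) :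
    ((Φ.Yp ψ hLR W').left.basicOpen r₀ : Set (Φ.Yp ψ hLR W').left) = Set.range (Φ.map ψ hLR h).left := by
  refine (Φ.surjective_φp ψ hLR W').preimage_injective ?_
  show ((Φ.φp ψ hLR W').left ⁻¹ᵁ (Φ.Yp ψ hLR W').left.basicOpen r₀ : Set (openObj W'.1).left) = _
  rw [Scheme.Hom.preimage_basicOpen_top, hr₀]
  ext x
  rw [SetLike.mem_coe, Set.mem_preimage, Φ.mem_range_map_iff ψ hLR]
  exact (mem_basicOpen_topIso r x).trans (by rw [hr])

/-- the quotient of an intersection is closed in the product -/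
theorem Family.isClosedImmersion_pair (W W' : Φ.P) :
    IsClosedImmersion (lift (Φ.map ψ hLR (W := Φ.inf W W') (inf_le_left : (Φ.inf W W').1 ≤ W.1))
      (Φ.map ψ hLR (W := Φ.inf W W') (inf_le_right : (Φ.inf W W').1 ≤ W'.1))).left := by
  let l := Φ.inf W W'
  let iW := Φ.map ψ hLR (W := l) (inf_le_left : l.1 ≤ W.1)
  let iW' := Φ.map ψ hLR (W := l) (inf_le_right : l.1 ≤ W'.1)
  obtain ⟨s, t, hs, ht, hsb, htb, hst⟩ := Φ.pair W.1 W.2 W'.1 W'.2
  obtain ⟨s₀, hs₀⟩ := Φ.exists_fn ψ hLR W hs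
  obtain ⟨t₀, ht₀⟩ := Φ.exists_fn ψ hLR W' ht
  haveI : IsOpenImmersion iW.left := (Φ.map_spec ψ hLR _).1
  haveI : IsOpenImmersion iW'.left := (Φ.map_spec ψ hLR _).1
  let p : Φ.Yp ψ hLR l ⟶ Φ.Yp ψ hLR l ⊗ Φ.Yp ψ hLR l := lift (𝟙 _) (𝟙 _)
  haveI : IsClosedImmersion p.left := by rw [diag_left]; infer_instance
  have hp : p ≫ (iW ⊗ₘ iW') = lift iW iW' := by
    simp [p]
  have hone : iW.left.appTop s₀ * iW'.left.appTop t₀ = 1 := by
    apply (Φ.affQ ψ hLR l).injective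
    rw [map_mul, map_one, Φ.appTop_map ψ hLR _ hs₀, Φ.appTop_map ψ hLR _ ht₀, ← map_mul, hst, map_one]
  have h1 : p ≫ fst _ _ ≫ iW = iW := by simp [p]
  have h2 : p ≫ snd _ _ ≫ iW' = iW' := by simp [p]
  haveI hfin : IsFinite (p ≫ (iW ⊗ₘ iW')).left :=
    isFinite_pair_of_functions p iW iW' s₀ s₀ t₀ t₀ (Φ.basicOpen_fn ψ hLR _ hs₀ hsb)
      (Φ.basicOpen_fn ψ hLR _ ht₀ htb) (by rw [h1, h2]; exact hone)
      (by rw [h1, h2, mul_comm]; exact hone)
  rw [← hp]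
  haveI := isOpenImmersion_tensorHom iW iW'
  haveI : IsPreimmersion (p ≫ (iW ⊗ₘ iW')).left := by rw [Over.comp_left]; infer_instance
  exact IsClosedImmersion.of_isPreimmersion _ (p ≫ (iW ⊗ₘ iW')).left.isClosedMap.isClosed_range

include ψ hLR in
theorem Family.isSeparated : IsSeparated (Φ.Y ψ hLR).hom := by
  let Y := Φ.Y ψ hLR
  let d : Y ⟶ Y ⊗ Y := lift (𝟙 Y) (𝟙 Y)
  constructor
  rw [show pullback.diagonal (Φ.Y ψ hLR).hom = d.left from (diag_left Y).symm]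
  haveI hop := fun q : Φ.P × Φ.P => isOpenImmersion_tensorHom (Φ.ιY ψ hLR q.1) (Φ.ιY ψ hLR q.2)
  refine IsZariskiLocalAtTarget.of_iSup_eq_top
    (fun q : Φ.P × Φ.P => (Φ.ιY ψ hLR q.1 ⊗ₘ Φ.ιY ψ hLR q.2).left.opensRange) ?_ fun q => ?_
  · rw [eq_top_iff]
    intro z _
    obtain ⟨W, w, hw⟩ := Φ.exists_ιY ψ hLR ((fst Y Y).left z)
    obtain ⟨W', w', hw'⟩ := Φ.exists_ιY ψ hLR ((snd Y Y).left z)
    refine Opens.mem_iSup.2 ⟨⟨W, W'⟩, ?_⟩
    show z ∈ Set.range (Φ.ιY ψ hLR W ⊗ₘ Φ.ιY ψ hLR W').left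
    rw [range_tensorHom]
    exact ⟨⟨w, hw⟩, ⟨w', hw'⟩⟩
  · let l := Φ.inf q.1 q.2
    have h₁ : l.1 ≤ q.1.1 := inf_le_left
    have h₂ : l.1 ≤ q.2.1 := inf_le_right
    have hw : lift (Φ.map ψ hLR h₁) (Φ.map ψ hLR h₂) ≫ (Φ.ιY ψ hLR q.1 ⊗ₘ Φ.ιY ψ hLR q.2) =
        Φ.ιY ψ hLR l ≫ d := by
      rw [lift_map, Φ.map_ιY ψ hLR, Φ.map_ιY ψ hLR, comp_lift, Category.comp_id]
    have hsq : IsPullback (lift (Φ.map ψ hLR h₁) (Φ.map ψ hLR h₂)).left (Φ.ιY ψ hLR l).left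
        (Φ.ιY ψ hLR q.1 ⊗ₘ Φ.ιY ψ hLR q.2).left d.left := by
      refine IsOpenImmersion.isPullback _ _ _ _ (congrArg (fun m => m.left) hw).symm ?_
      ext y
      have hf : (fst Y Y).left (d.left y) = y := by
        rw [← Scheme.Hom.comp_apply, ← Over.comp_left]
        simp [d]
      have hg : (snd Y Y).left (d.left y) = y := by
        rw [← Scheme.Hom.comp_apply, ← Over.comp_left]
        simp [d]
      show d.left y ∈ Set.range _ ↔ y ∈ Set.range (Φ.ιY ψ hLR l).left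
      rw [range_tensorHom, Set.mem_inter_iff, Set.mem_preimage, Set.mem_preimage, hf, hg]
      refine Iff.symm ?_
      constructor
      · rintro ⟨v, rfl⟩
        refine ⟨⟨(Φ.map ψ hLR h₁).left v, ?_⟩, ⟨(Φ.map ψ hLR h₂).left v, ?_⟩⟩ <;>
          rw [← Scheme.Hom.comp_apply, ← Over.comp_left, Φ.map_ιY ψ hLR]
      · rintro ⟨⟨z₁, hz₁⟩, ⟨z₂, hz₂⟩⟩
        obtain ⟨m, fi, fj, v, hv, -⟩ :=
          (Scheme.IsLocallyDirected.ι_eq_ι_iff (Φ.diagram ψ hLR)).1 (hz₁.trans hz₂.symm)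
        refine ⟨(Φ.map ψ hLR (show m.1 ≤ l.1 from le_inf (leOfHom fi) (leOfHom fj))).left v, ?_⟩
        rw [← hz₁, ← hv, ← Scheme.Hom.comp_apply, ← Over.comp_left, Φ.map_ιY ψ hLR]
        exact congr($(colimit.w (Φ.diagram ψ hLR) fi) v).symm
    refine (MorphismProperty.arrow_mk_iso_iff (P := @IsClosedImmersion) (morphismRestrictOpensRange _ _)).2 ?_
    rw [← MorphismProperty.cancel_left_of_respectsIso @IsClosedImmersion hsq.flip.isoPullback.hom,
      hsq.flip.isoPullback_hom_snd]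
    exact Φ.isClosedImmersion_pair ψ hLR q.1 q.2

end Groth.Agent.GIT36.Glue
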